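import Cfsg.Agent.H23.Cyc.Local

/-!
# The action of the inertial group on the characters of the block of `C(z)`

`Loc.tw x η` is `η` conjugated by `x`; the elements of `stab D f₀` permute the block, one character
is fixed by all of them and the others lie in regular orbits of `stab D f₀ / C(D)`.
-/

set_option autoImplicit false
set_option linter.style.haveILetI false
set_option linter.unusedSectionVars false
set_option maxHeartbeats 400000

open Cfsg
open scoped MonoidAlgebra ComplexConjugate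

namespace H23.Cyc

universe u

section Natural

variable {K K' : Type u} [Group K] [Fintype K] [Group K'] [Fintype K'] {p : ℕ} [Fact p.Prime]
  {M : Ideal AlgInt} [hMp : M.IsPrime]

theorem coeff_mapDomain (φ : K' ≃* K) (e : MonoidAlgebra (H20.O M) K') (x : K') :
    (MonoidAlgebra.mapDomainAlgHom (H20.O M) (H20.O M) φ.toMonoidHom e).coeff (φ x) = e.coeff x :=
  Finsupp.mapDomain_apply φ.injective e.coeff x

/-- Traces are natural in the group. -/
theorem T_irrCongr (φ : K' ≃* K) (χ : IrrCharacter K) {g : K'} {a : (H20.k M)[K']}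
    {a' : (H20.k M)[K]} (ha : IsId g a) (haa : ∀ x, a'.coeff (φ x) = a.coeff x) :
    T (H12.irrCongr φ χ) g a = T χ (φ g) a' := by
  classical
  obtain ⟨e, he, her, hec⟩ := ha.lift
  set ι : MonoidAlgebra (H20.O M) K' →ₐ[H20.O M] MonoidAlgebra (H20.O M) K :=
    MonoidAlgebra.mapDomainAlgHom (H20.O M) (H20.O M) φ.toMonoidHom with hι
  have hsingle : ι (gO M g) = gO M (φ g) := by
    rw [hι, MonoidAlgebra.mapDomainAlgHom_apply]
    exact MonoidAlgebra.mapDomain_single
  have hr : H20.rd (ι e) = a' := by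
    ext x
    obtain ⟨w, rfl⟩ := φ.surjective x
    rw [H20.coeff_rd, hι, coeff_mapDomain, haa, ← her, H20.coeff_rd]
  rw [T_eq _ he her hec, T_eq χ (show ι e * ι e = ι e by rw [← map_mul, he]) hr
    (hsingle ▸ hec.map ι), ← hsingle, ← map_mul, chiLin, chiLin]
  refine Fintype.sum_equiv φ.toEquiv _ _ fun x => ?_
  rw [H12.irrCongr_apply]
  show _ = (((ι (gO M g * e)).coeff (φ x) : H20.O M) : ℂ) * (χ : K → ℂ) (φ x)
  rw [hι, coeff_mapDomain]

end Natural

variable {G : Type u} [Group G] [Fintype G] {p : ℕ} [hp : Fact p.Prime] {M : Ideal AlgInt}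
  [hMp : M.IsPrime] [CharP (H20.k M) p] [IsAlgClosed (H20.k M)]

/-- The normalizer of `⟨z⟩`. -/
abbrev Nz (z : G) : Subgroup G := Subgroup.normalizer (Subgroup.zpowers z : Set G)

theorem cjS_Cz {z x : G} (hx : x ∈ Nz z) : cjS x (Cz z) = Cz z := by
  rw [Cz, ← centralizer_zpowers z, cjS_centralizer, cjS_eq_self hx]

theorem conj_mem_Cz {z x : G} (hx : x ∈ Nz z) (a : Cz z) : x * (a : G) * x⁻¹ ∈ Cz z :=
  (cjS_Cz hx).le ⟨a, a.2, rfl⟩

theorem Cz_le_Nz (z : G) : Cz z ≤ Nz z := by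
  rw [Cz, ← centralizer_zpowers z]
  exact Subgroup.centralizer_le_normalizer _

theorem isId_of_mem_Bls {g : G} {b : (H20.k M)[G]} (hb : b ∈ Bls M (H20.pPart p g)) : IsId g b :=
  ⟨(mem_Bls.1 hb).cidem.idem,
    isFix_iff_cj.1 (mem_Bls.1 hb).cidem.fix g (mem_centralizer_pPart g)⟩

/-- A character of `C(z)` conjugated by `x`. -/
noncomputable def tw {z : G} (x : G) (η : IrrCharacter (Cz z)) : IrrCharacter (Cz z) :=
  open Classical in if h : x ∈ Nz z then pullChar (cjS_Cz h) η else η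

theorem tw_eq {z x : G} (h : x ∈ Nz z) (η : IrrCharacter (Cz z)) :
    tw x η = pullChar (cjS_Cz h) η := dif_pos h

theorem tw_apply {z x : G} (h : x ∈ Nz z) (η : IrrCharacter (Cz z)) (a : Cz z) :
    (tw x η : Cz z → ℂ) a = (η : Cz z → ℂ) ⟨x * a * x⁻¹, conj_mem_Cz h a⟩ := by
  rw [tw_eq h, pullChar_apply]
  exact congrArg _ (Subtype.ext (coe_cjEquiv _ a))

theorem tw_of_mem_Cz {z k : G} (hk : k ∈ Cz z) (η : IrrCharacter (Cz z)) : tw k η = η := by
  refine Subtype.ext (funext fun a => ?_)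
  rw [tw_apply (Cz_le_Nz z hk),
    show (⟨k * a * k⁻¹, conj_mem_Cz (Cz_le_Nz z hk) a⟩ : Cz z) = ⟨k, hk⟩ * a * ⟨k, hk⟩⁻¹ from
      Subtype.ext rfl]
  exact H12.irr_isClassFunction η a ⟨k, hk⟩

theorem tw_one {z : G} (η : IrrCharacter (Cz z)) : tw (1 : G) η = η := tw_of_mem_Cz (one_mem _) η

theorem tw_mul {z x y : G} (hx : x ∈ Nz z) (hy : y ∈ Nz z) (η : IrrCharacter (Cz z)) :
    tw (x * y) η = tw y (tw x η) := by
  refine Subtype.ext (funext fun a => ?_)
  rw [tw_apply (mul_mem hx hy), tw_apply hy, tw_apply hx]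
  exact congrArg _ (Subtype.ext (by group))

theorem tw_injective {z x : G} (hx : x ∈ Nz z) :
    Function.Injective (tw x : IrrCharacter (Cz z) → IrrCharacter (Cz z)) := by
  intro η η' h
  have := congrArg (tw x⁻¹) h
  rwa [← tw_mul hx (inv_mem hx), ← tw_mul hx (inv_mem hx), mul_inv_cancel, tw_one, tw_one] at this

theorem mem_centralizer_conj {D : Subgroup G} {t : G} (ht : t ∈ Subgroup.normalizer (D : Set G))
    {c : G} (hc : c ∈ Subgroup.centralizer (D : Set G)) :
    t * c * t⁻¹ ∈ Subgroup.centralizer (D : Set G) := by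
  rw [← cjS_eq_self (x := t) ht, ← cjS_centralizer, mem_cjS]
  simpa [mul_assoc] using hc

namespace Setup

variable {B : Set (IrrCharacter G)} {D : Subgroup G} {f0 : (H20.k M)[G]} {z : G}
  (S : Setup p M B D f0 z)
include S

theorem stab_le_Nz : stab D f0 ≤ Nz z := fun _ ht =>
  H19.CyclicLocal.mem_normalizer_of_le S.cyc S.zpowers_le ht.1

theorem cent_le_stab : Subgroup.centralizer (D : Set G) ≤ stab D f0 :=
  H23.centralizer_le_stab p S.hmax.1

theorem cj_fz {t : G} (ht : t ∈ stab D f0) : cj t S.fz = S.fz := by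
  have h := S.fz_le.cj p t
  rw [cjS_eq_self (S.stab_le_Nz ht), cjS_eq_self ht.1, ht.2] at h
  exact le_unique p S.hmax.1 h S.fz_le

theorem mem_cent {t : G} (ht : t ∈ stab D f0) (hc : t ∈ Cz z) :
    t ∈ Subgroup.centralizer (D : Set G) :=
  S.free ht S.zD S.z_ne_one (mul_inv_eq_iff_eq_mul.2 (Subgroup.mem_centralizer_singleton_iff.1 hc))

/-- The stabilizer of the block of `C(z)` is `stab D f₀ * C(z)`. -/
theorem exists_split {x : G} (hx : x ∈ Nz z) (h : cj x S.fz = S.fz) :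
    ∃ t ∈ stab D f0, t⁻¹ * x ∈ Cz z := by
  have hDC : D ≤ Subgroup.centralizer (Subgroup.zpowers z : Set G) := by
    rw [centralizer_zpowers]
    exact S.le_cent
  obtain ⟨t, ht, htw⟩ := H17.Major.exists_stab_conj S.hB S.hmax S.fz_le S.fz_le hDC hDC
    (x := x) (cjS_eq_self hx) h
  refine ⟨t, ht, Subgroup.mem_centralizer_singleton_iff.2 ?_⟩
  have h1 := congrArg (fun w => t⁻¹ * w * x) (htw z (Subgroup.mem_zpowers z))
  simpa [mul_assoc] using h1.symm

/-- Conjugation on `D` seen in `C(z)`. -/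
noncomputable def cD (t : G) (ht : t ∈ stab D f0) :
    D.subgroupOf (Cz z) →* D.subgroupOf (Cz z) where
  toFun u := ⟨⟨t * ((u : Cz z) : G) * t⁻¹,
      S.le_cent ((Subgroup.mem_normalizer_iff.1 ht.1 _).1 u.2)⟩,
    (Subgroup.mem_normalizer_iff.1 ht.1 _).1 u.2⟩
  map_one' := Subtype.ext (Subtype.ext (by simp))
  map_mul' u v := Subtype.ext (Subtype.ext (by simp [mul_assoc]))

theorem coe_cD (t : G) (ht : t ∈ stab D f0) (u : D.subgroupOf (Cz z)) :
    ((S.cD t ht u : Cz z) : G) = t * ((u : Cz z) : G) * t⁻¹ := rfl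

theorem cD_eq_self_imp {t : G} (ht : t ∈ stab D f0) {u : D.subgroupOf (Cz z)}
    (h : S.cD t ht u = u) : u = 1 ∨ t ∈ Subgroup.centralizer (D : Set G) := by
  by_cases hu : u = 1
  · exact Or.inl hu
  · refine Or.inr (S.free ht u.2 (fun h1 => hu (Subtype.ext (Subtype.ext h1))) ?_)
    exact congrArg (fun w : D.subgroupOf (Cz z) => ((w : Cz z) : G)) h

/-- A linear character fixed by a non-trivial inertial element is trivial. -/
theorem eq_one_of_comp_cD {t : G} (ht : t ∈ stab D f0)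
    (htC : t ∉ Subgroup.centralizer (D : Set G)) {l : D.subgroupOf (Cz z) →* ℂˣ}
    (h : l.comp (S.cD t ht) = l) : l = 1 := by
  classical
  have hinj : Function.Injective fun u => u⁻¹ * S.cD t ht u := by
    intro u v huv
    simp only at huv
    have hc : ∀ a b : D.subgroupOf (Cz z), a * b = b * a := fun a b =>
      Subtype.ext (Subtype.ext (S.comm a.2 b.2))
    have h1 : S.cD t ht (u * v⁻¹) = u * v⁻¹ := by
      rw [map_mul, map_inv]
      calc S.cD t ht u * (S.cD t ht v)⁻¹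
          = u * (u⁻¹ * S.cD t ht u) * (S.cD t ht v)⁻¹ := by group
        _ = u * (v⁻¹ * S.cD t ht v) * (S.cD t ht v)⁻¹ := by rw [huv]
        _ = u * v⁻¹ := by group
    rcases S.cD_eq_self_imp ht h1 with h2 | h2
    · exact mul_inv_eq_one.1 h2
    · exact absurd h2 htC
  refine MonoidHom.ext fun w => ?_
  obtain ⟨u, rfl⟩ := Finite.injective_iff_surjective.1 hinj w
  rw [MonoidHom.one_apply, map_mul, map_inv, ← MonoidHom.comp_apply, h, inv_mul_cancel]

theorem normal_cent : ((Subgroup.centralizer (D : Set G)).subgroupOf (stab D f0)).Normal :=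
  ⟨fun c hc g => by
    rw [Subgroup.mem_subgroupOf] at hc ⊢
    exact mem_centralizer_conj g.2.1 hc⟩

/-- A transversal of `C(D)` in the inertial group. -/
theorem exists_reps : ∃ R : Finset G, (∀ r ∈ R, r ∈ stab D f0) ∧
    (∀ t ∈ stab D f0, ∃ r ∈ R, r⁻¹ * t ∈ Subgroup.centralizer (D : Set G)) ∧
    (∀ r ∈ R, ∀ r' ∈ R, r⁻¹ * r' ∈ Subgroup.centralizer (D : Set G) → r = r') ∧
    R.card = (Subgroup.centralizer (D : Set G)).relIndex (stab D f0) := by
  classical
  set T := stab D f0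
  set N := (Subgroup.centralizer (D : Set G)).subgroupOf T
  haveI : Fintype (T ⧸ N) := Fintype.ofFinite _
  refine ⟨Finset.univ.image fun q : T ⧸ N => ((q.out : T) : G), ?_, ?_, ?_, ?_⟩
  · intro r hr
    obtain ⟨q, -, rfl⟩ := Finset.mem_image.1 hr
    exact q.out.2
  · intro t ht
    refine ⟨_, Finset.mem_image.2 ⟨(⟨t, ht⟩ : T), Finset.mem_univ _, rfl⟩, ?_⟩
    have h' := QuotientGroup.eq.1 (QuotientGroup.out_eq' ((⟨t, ht⟩ : T) : T ⧸ N))
    exact h'
  · intro r hr r' hr' h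
    obtain ⟨q, -, rfl⟩ := Finset.mem_image.1 hr
    obtain ⟨q', -, rfl⟩ := Finset.mem_image.1 hr'
    have h' : (q.out)⁻¹ * q'.out ∈ N := h
    rw [show q = q' from (QuotientGroup.out_eq' q).symm.trans ((QuotientGroup.eq.2 h').trans
      (QuotientGroup.out_eq' q'))]
  · have hinj : Function.Injective fun q : T ⧸ N => ((q.out : T) : G) := fun q q' h =>
      Quotient.out_injective (Subtype.ext h)
    rw [Finset.card_image_of_injective _ hinj, Finset.card_univ, ← Nat.card_eq_fintype_card]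
    rfl

theorem bot_lt : D ≠ ⊥ := fun h => S.z_ne_one (by simpa [h] using S.zD)

/-- The inertial group is generated by `C(D)` and one element. -/
theorem exists_gen : ∃ τ ∈ stab D f0, ∀ t ∈ stab D f0, ∃ n : ℕ,
    (τ ^ n)⁻¹ * t ∈ Subgroup.centralizer (D : Set G) := by
  classical
  haveI := S.normal_cent
  obtain ⟨hcyc, -⟩ := H19.CyclicLocal.quotient_structure S.cyc S.hmax.1.1 S.bot_lt
    (T := stab D f0) (fun _ ht => ht.1) (fun t ht x hx hx1 h => S.free ht hx hx1 h)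
  obtain ⟨g, hg⟩ := hcyc.exists_generator
  obtain ⟨τ, rfl⟩ := QuotientGroup.mk_surjective g
  refine ⟨τ, τ.2, fun t ht => ?_⟩
  obtain ⟨n, hn⟩ := mem_powers_iff_mem_zpowers.2 (hg ((⟨t, ht⟩ : stab D f0) : _ ⧸ _))
  refine ⟨n, ?_⟩
  simp only [← QuotientGroup.mk_pow] at hn
  have h' := QuotientGroup.eq.1 hn
  rw [Subgroup.mem_subgroupOf] at h'
  simpa using h'

theorem relIndex_dvd : (Subgroup.centralizer (D : Set G)).relIndex (stab D f0) ∣ p - 1 := by
  haveI := S.normal_cent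
  exact (H19.CyclicLocal.quotient_structure S.cyc S.hmax.1.1 S.bot_lt
    (T := stab D f0) (fun _ ht => ht.1) (fun t ht x hx hx1 h => S.free ht hx hx1 h)).2

end Setup

namespace Loc

variable {B : Set (IrrCharacter G)} {D : Subgroup G} {f0 : (H20.k M)[G]} {z : G}
  {S : Setup p M B D f0 z} [Fintype (Cz z)] (L : Loc p M S)
include L

theorem eG_eq : eG M (Cz z) L.bK = S.fz := by
  rw [← emb_res (supp_eG _ _), res_eG, show H20.eRed M L.bK = eB M L.bK from rfl, L.eB_eq,
    emb_res S.isBlk_fz.cidem.supp]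

theorem tw_mem_iff {x : G} (hx : x ∈ Nz z) (h : cj x S.fz = S.fz) (η : IrrCharacter (Cz z)) :
    tw x η ∈ L.bK ↔ η ∈ L.bK := by
  rw [tw_eq hx]
  exact (mem_iff_pull _ L.isBlock L.isBlock (by rw [L.eG_eq, h]) η).symm

theorem cj_fz_of_mem {x : G} (hx : x ∈ Nz z) {η : IrrCharacter (Cz z)} (hη : η ∈ L.bK)
    (h : tw x η ∈ L.bK) : cj x S.fz = S.fz := by
  have hblk : IsBlk (Cz z) (cj x S.fz) := by
    have := S.isBlk_fz.cj x
    rwa [show Subgroup.map _ (Cz z) = Cz z from cjS_Cz hx] at this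
  obtain ⟨e', he', heq⟩ := exists_pblock_eq hblk
  rw [← L.eG_eq] at heq
  rw [tw_eq hx, ← mem_iff_pull _ L.isBlock he' heq] at h
  obtain rfl : e' = L.bK := H20.block_eq_of_mem he' L.isBlock h hη
  rw [← L.eG_eq]
  exact heq.symm

theorem tw_stab_mem {t : G} (ht : t ∈ stab D f0) {η : IrrCharacter (Cz z)} (hη : η ∈ L.bK) :
    tw t η ∈ L.bK := (L.tw_mem_iff (S.stab_le_Nz ht) (S.cj_fz ht) η).2 hη

theorem emb_bl_le {u : D.subgroupOf (Cz z)} (hu : u ≠ 1) :
    Le p (Subgroup.zpowers ((u : Cz z) : G), emb (Cz z) (L.bl u)) (D, f0) :=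
  S.le_of_le_K (L.bl_le u) fun h => hu (Subtype.ext h)

theorem cj_emb_bl {t : G} (ht : t ∈ stab D f0) {u : D.subgroupOf (Cz z)} (hu : u ≠ 1) :
    cj t (emb (Cz z) (L.bl u)) = emb (Cz z) (L.bl (S.cD t ht u)) := by
  have h := (L.emb_bl_le hu).cj p t
  rw [cjS_zpowers, cjS_eq_self ht.1, ht.2] at h
  have hne : S.cD t ht u ≠ 1 := fun h1 => hu ?_
  · exact le_unique p S.hmax.1 h (L.emb_bl_le hne)
  refine Subtype.ext (Subtype.ext ?_)
  have h2 := congrArg (fun w : D.subgroupOf (Cz z) => ((w : Cz z) : G)) h1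
  simp only [S.coe_cD, Subgroup.coe_one, mul_inv_eq_one, mul_eq_left] at h2
  exact h2

/-- The values of a conjugate on the sections. -/
theorem T_tw {t : G} (ht : t ∈ stab D f0) (η : IrrCharacter (Cz z)) {u : D.subgroupOf (Cz z)}
    (hu : u ≠ 1) {g : Cz z} (hg : H20.pPart p g = (u : Cz z)) :
    H20.pPart p (cjEquiv (cjS_Cz (S.stab_le_Nz ht)) g) = (S.cD t ht u : Cz z) ∧
      T (tw t η) g (L.bl u) =
        T η (cjEquiv (cjS_Cz (S.stab_le_Nz ht)) g) (L.bl (S.cD t ht u)) := by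
  have hN := S.stab_le_Nz ht
  set φ := cjEquiv (cjS_Cz (z := z) hN) with hφ
  refine ⟨?_, ?_⟩
  · refine Subtype.ext ?_
    rw [← H20.pPart_coe, coe_cjEquiv, H20.pPart_conj, H20.pPart_coe, hg, S.coe_cD]
  · have htw : tw t η = H12.irrCongr φ η := Subtype.ext (funext fun a => by
      rw [tw_eq hN, pullChar_apply, H12.irrCongr_apply])
    rw [htw]
    refine T_irrCongr φ η (isId_of_mem_Bls (hg ▸ L.bl_mem u)) fun x => ?_
    rw [← coeff_emb_coe, ← L.cj_emb_bl ht hu, coe_cjEquiv, coeff_cj,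
      show t⁻¹ * (t * (x : G) * t⁻¹) * t = (x : G) by group, coeff_emb_coe]

/-- Conjugation on the labels is affine. -/
theorem exists_shift {t : G} (ht : t ∈ stab D f0) :
    ∃ lt : D.subgroupOf (Cz z) →* ℂˣ, ∀ l, tw t (L.ξ l) = L.ξ (l.comp (S.cD t ht) * lt) := by
  classical
  obtain ⟨lt, hlt⟩ := L.exists_ξ_eq (L.tw_stab_mem ht L.mem)
  refine ⟨lt, fun l => ?_⟩
  obtain ⟨l', hl'⟩ := L.exists_ξ_eq (L.tw_stab_mem ht (L.ξ_mem l))
  rw [← hl']
  congr 1
  refine MonoidHom.ext fun u => ?_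
  by_cases hu : u = 1
  · subst hu; simp
  obtain ⟨g, hg, hne⟩ := L.exists_ne_zero u
  obtain ⟨hg', h1⟩ := L.T_tw ht (L.ξ l) hu hg
  obtain ⟨-, h2⟩ := L.T_tw ht L.χ₀ hu hg
  rw [← hl', L.T_ξ l' u hg, L.T_ξ l _ hg'] at h1
  rw [← hlt, L.T_ξ lt u hg] at h2
  refine Units.ext (mul_right_cancel₀ hne ?_)
  rw [MonoidHom.mul_apply, MonoidHom.comp_apply, Units.val_mul, mul_assoc, h2]
  exact h1

theorem finite_labels : Finite (D.subgroupOf (Cz z) →* ℂˣ) :=
  Finite.of_injective L.ξ L.ξ_injective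

/-- The affine map of a non-trivial inertial element has exactly one fixed point. -/
theorem existsUnique_fixed {t : G} (ht : t ∈ stab D f0)
    (htC : t ∉ Subgroup.centralizer (D : Set G)) :
    ∃! l, tw t (L.ξ l) = L.ξ l := by
  classical
  haveI := L.finite_labels
  obtain ⟨lt, hlt⟩ := L.exists_shift ht
  have hinj : Function.Injective fun l : D.subgroupOf (Cz z) →* ℂˣ => l / l.comp (S.cD t ht) := by
    intro l l' h
    refine div_eq_one.1 (S.eq_one_of_comp_cD ht htC ?_)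
    refine MonoidHom.ext fun u => ?_
    have h1 : (l / l.comp (S.cD t ht)) u = (l' / l'.comp (S.cD t ht)) u := congrArg (fun f => f u) h
    simp only [MonoidHom.div_apply, MonoidHom.comp_apply] at h1 ⊢
    rw [div_eq_div_iff_div_eq_div] at h1
    exact h1.symm
  obtain ⟨l, hl⟩ := Finite.injective_iff_surjective.1 hinj lt
  have hiff : ∀ m, tw t (L.ξ m) = L.ξ m ↔ m / m.comp (S.cD t ht) = lt := fun m => by
    rw [hlt, L.ξ_injective.eq_iff]
    constructor
    · intro h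
      refine MonoidHom.ext fun u => ?_
      rw [MonoidHom.div_apply]
      exact div_eq_iff_eq_mul'.2 (DFunLike.congr_fun h u).symm
    · intro h
      refine MonoidHom.ext fun u => ?_
      rw [MonoidHom.mul_apply]
      refine (div_eq_iff_eq_mul'.1 ?_).symm
      rw [← MonoidHom.div_apply]
      exact DFunLike.congr_fun h u
  exact ⟨l, (hiff l).2 hl, fun m hm => hinj (((hiff m).1 hm).trans hl.symm)⟩

/-- One character of the block is fixed by the inertial group. -/
theorem exists_fixed : ∃ η0 ∈ L.bK, ∀ t ∈ stab D f0, tw t η0 = η0 := by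
  classical
  obtain ⟨τ, hτ, hgen⟩ := S.exists_gen
  obtain ⟨η0, hη0, hfix⟩ : ∃ η0 ∈ L.bK, tw τ η0 = η0 := by
    by_cases hC : τ ∈ Subgroup.centralizer (D : Set G)
    · exact ⟨L.χ₀, L.mem, tw_of_mem_Cz (S.cent_le hC) _⟩
    · obtain ⟨l, hl, -⟩ := L.existsUnique_fixed hτ hC
      exact ⟨_, L.ξ_mem l, hl⟩
  refine ⟨η0, hη0, fun t ht => ?_⟩
  obtain ⟨n, hn⟩ := hgen t ht
  have hpow : ∀ m : ℕ, tw (τ ^ m) η0 = η0 := by
    intro m
    induction m with
    | zero => rw [pow_zero, tw_one]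
    | succ m ih =>
      rw [pow_succ, tw_mul (S.stab_le_Nz (pow_mem hτ m)) (S.stab_le_Nz hτ), ih, hfix]
  have h := tw_mul (z := z) (S.stab_le_Nz (pow_mem hτ n)) (Cz_le_Nz z (S.cent_le hn)) η0
  rw [mul_inv_cancel_left, hpow, tw_of_mem_Cz (S.cent_le hn)] at h
  exact h

/-- The fixed character. -/
noncomputable def η₀ : IrrCharacter (Cz z) := L.exists_fixed.choose

theorem η₀_mem : L.η₀ ∈ L.bK := L.exists_fixed.choose_spec.1

theorem tw_η₀ {t : G} (ht : t ∈ stab D f0) : tw t L.η₀ = L.η₀ :=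
  L.exists_fixed.choose_spec.2 t ht

/-- Away from the fixed character the inertial quotient acts freely. -/
theorem free {t : G} (ht : t ∈ stab D f0) {η : IrrCharacter (Cz z)} (hη : η ∈ L.bK)
    (hne : η ≠ L.η₀) (h : tw t η = η) : t ∈ Subgroup.centralizer (D : Set G) := by
  by_contra hC
  obtain ⟨l, rfl⟩ := L.exists_ξ_eq hη
  obtain ⟨l0, hl0⟩ := L.exists_ξ_eq L.η₀_mem
  exact hne (hl0 ▸ congrArg L.ξ ((L.existsUnique_fixed ht hC).unique h
    (hl0.symm ▸ L.tw_η₀ ht)))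

end Loc

end H23.Cyc
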