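import Cfsg.Agent.H23.Cyc.Iso
import Cfsg.Agent.H20.BlockApps

/-!
# The perfect isometry with the Frobenius group

A group `F` with a self-centralising cyclic normal Sylow subgroup `Q` has one block; a block with
cyclic defect group of order `|Q|` and inertial index `|F : Q|` is perfectly isometric to it.
-/

set_option autoImplicit false
set_option linter.style.haveILetI false
set_option linter.unusedSectionVars false
set_option maxHeartbeats 400000

open Cfsg
open scoped MonoidAlgebra ComplexConjugate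

namespace H23.Cyc

universe u v

variable {p : ℕ} [hp : Fact p.Prime] {M : Ideal AlgInt} [hMp : M.IsPrime] [CharP (H20.k M) p]
  [IsAlgClosed (H20.k M)]

/-- With a self-centralising normal `p`-subgroup the block idempotents are trivial. -/
theorem eB_eq_one {F : Type v} [Group F] [Fintype F] (hM : IsPModular p M) {Q : Subgroup F}
    [Q.Normal] (hQ : IsPGroup p Q) (hC : Subgroup.centralizer (Q : Set F) ≤ Q)
    {B : Set (IrrCharacter F)} (hB : IsPBlock M B) : eB M B = 1 := by
  classical
  have hone : ∀ g : F, g ≠ 1 → (eB M B).coeff g = 0 := by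
    intro g hg
    by_contra hne
    obtain ⟨j, hj⟩ := IsPGroup.iff_orderOf.1 hQ
      ⟨g, hC (by_contra fun h => hne (supp_eB_of_normal hM hQ hB g h))⟩
    rw [Subgroup.orderOf_mk] at hj
    have hreg := H20.regular_of_coeff_ne_zero hM hB hne
    rw [hj] at hreg
    refine hg (orderOf_eq_one_iff.1 ?_)
    rw [hj]
    rcases Nat.eq_zero_or_pos j with rfl | hj0
    · rfl
    · exact absurd (dvd_pow_self p hj0.ne') hreg
  have hsupp : eB M B = (eB M B).coeff 1 • (1 : (H20.k M)[F]) := by
    ext g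
    rcases eq_or_ne g 1 with rfl | hg
    · simp [MonoidAlgebra.one_def]
    · simp [MonoidAlgebra.one_def, hone g hg, Ne.symm hg]
  have hid := (cidem_eB (M := M) hB).idem
  rw [hsupp, smul_mul_smul_comm, one_mul] at hid
  have hc := congrArg (fun a : (H20.k M)[F] => a.coeff 1) hid
  simp only [MonoidAlgebra.one_def] at hc
  simp at hc
  rcases (IsIdempotentElem.iff_eq_zero_or_one.1 hc) with h | h
  · exact absurd (by rw [hsupp, h, zero_smul]) (isBlk_eB hB).ne_zero
  · rw [hsupp, h, one_smul]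

theorem block_eq_univ {F : Type v} [Group F] [Fintype F] (hM : IsPModular p M) {Q : Subgroup F}
    [Q.Normal] (hQ : IsPGroup p Q) (hC : Subgroup.centralizer (Q : Set F) ≤ Q)
    {B : Set (IrrCharacter F)} (hB : IsPBlock M B) : B = Set.univ := by
  refine Set.eq_univ_of_forall fun χ => ?_
  rw [eB_injective hB (H20.isPBlock_blockOf χ)
    ((eB_eq_one hM hQ hC hB).trans (eB_eq_one hM hQ hC (H20.isPBlock_blockOf χ)).symm)]
  exact H20.mem_blockOf_self χ

theorem eG_eq_one {F : Type v} [Group F] [Fintype F] (hM : IsPModular p M) {H : Subgroup F}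
    [Fintype H] (hH : IsPGroup p H) {b : Set (IrrCharacter H)} (hb : IsPBlock M b) :
    eG M H b = 1 := by
  have h : eB M b = 1 := eB_eq_one hM (Q := (⊤ : Subgroup H)) (hH.to_subgroup ⊤) le_top hb
  rw [← emb_res (supp_eG H b), res_eG, show H20.eRed M b = eB M b from rfl, h, map_one]

/-- The only maximal pair of `F`. -/
theorem exists_max_frobenius {F : Type v} [Group F] [Fintype F] (hM : IsPModular p M)
    {Q : Subgroup F} [Q.Normal] (hQ : IsPGroup p Q)
    (hC : Subgroup.centralizer (Q : Set F) = Q) (hSyl : ¬ p ∣ Q.index) :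
    ∃ B : Set (IrrCharacter F), IsPBlock M B ∧ B = Set.univ ∧
      IsMax p (eB M B) Q 1 ∧ stab Q (1 : (H20.k M)[F]) = ⊤ := by
  classical
  haveI := Fintype.ofFinite (Subgroup.centralizer (Q : Set F))
  have hB : IsPBlock M (blockOf M ((H12.linIrr (1 : F →* ℂˣ)) : F → ℂ)) := H20.isPBlock_blockOf _
  set B := blockOf M ((H12.linIrr (1 : F →* ℂˣ)) : F → ℂ)
  have hE := eB_eq_one hM hQ hC.le hB
  obtain ⟨c, hc⟩ : ∃ c : Set (IrrCharacter (Subgroup.centralizer (Q : Set F))), IsPBlock M c :=
    ⟨_, H20.isPBlock_blockOf (H12.linIrr (1 : Subgroup.centralizer (Q : Set F) →* ℂˣ))⟩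
  have he : eG M (Subgroup.centralizer (Q : Set F)) c = 1 :=
    eG_eq_one hM (hQ.to_le hC.le) hc
  have hpair : IsPair p Q (1 : (H20.k M)[F]) := ⟨hQ, he ▸ isBlk_eG hc⟩
  have hin : InBlk (eB M B) Q (1 : (H20.k M)[F]) := by
    show (1 : (H20.k M)[F]) * Br Q (eB M B) = 1
    rw [one_mul, hE, Br_eq_self]
    intro g hg
    rcases eq_or_ne g 1 with rfl | h1
    · exact absurd (one_mem _) hg
    · simp [MonoidAlgebra.one_def, Ne.symm h1]
  obtain ⟨P, e, hm, hle⟩ := exists_max p (cidem_eB hB) hpair hin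
  have hQP : Q ≤ P := hle.le p
  have hPQ : Q = P := by
    refine Subgroup.eq_of_le_of_card_ge hQP ?_
    obtain ⟨n, hn⟩ := IsPGroup.iff_card.1 hm.1.1
    obtain ⟨m, hm'⟩ := IsPGroup.iff_card.1 hQ
    rw [hn, hm']
    refine Nat.pow_le_pow_right hp.out.pos ?_
    by_contra hlt
    apply hSyl
    have hdvd : p ^ (m + 1) ∣ Nat.card F :=
      (pow_dvd_pow p (by omega)).trans (hn ▸ Subgroup.card_subgroup_dvd_card P)
    rw [← Q.card_mul_index, hm', pow_succ] at hdvd
    exact (Nat.mul_dvd_mul_iff_left (pow_pos hp.out.pos m)).1 hdvd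
  subst hPQ
  obtain rfl : (1 : (H20.k M)[F]) = e := congrArg Prod.snd (hle.eq_of_eq p rfl)
  refine ⟨B, hB, block_eq_univ hM hQ hC.le hB, hm, ?_⟩
  refine eq_top_iff.2 fun x _ => (mem_stab).2 ⟨?_, map_one _⟩
  rw [Subgroup.normalizer_eq_top (H := Q)]
  exact Subgroup.mem_top x

theorem commutator_le {F : Type v} [Group F] [Finite F] {Q : Subgroup F} [Q.Normal]
    (hQc : IsCyclic Q) (hC : Subgroup.centralizer (Q : Set F) = Q) (a b : F) :
    a * b * a⁻¹ * b⁻¹ ∈ Q := by
  rw [← hC, Subgroup.mem_centralizer_iff]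
  intro w hw
  haveI := hQc
  haveI : IsMulCommutative (MulAut Q) := ⟨⟨fun f g => by
    obtain ⟨m, hm⟩ := MonoidHom.map_cyclic f.toMonoidHom
    obtain ⟨n, hn⟩ := MonoidHom.map_cyclic g.toMonoidHom
    refine MulEquiv.ext fun x => ?_
    show f (g x) = g (f x)
    rw [show g x = g.toMonoidHom x from rfl, hn, map_zpow, show f x = f.toMonoidHom x from rfl, hm,
      map_zpow]
    rw [show g x = g.toMonoidHom x from rfl, hn, ← zpow_mul, ← zpow_mul, mul_comm]⟩⟩
  have h : MulAut.conjNormal (H := Q) (a * b * a⁻¹ * b⁻¹) = 1 := by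
    simp only [map_mul, map_inv]
    rw [IsMulCommutative.is_comm.comm (MulAut.conjNormal a) (MulAut.conjNormal b)]
    group
  have h1 := congrArg (fun f : MulAut Q => ((f ⟨w, hw⟩ : Q) : F)) h
  simp only [MulAut.conjNormal_apply, MulAut.one_apply] at h1
  exact (mul_inv_eq_iff_eq_mul.1 h1).symm

section

variable {G : Type u} [Group G] [Fintype G] {B : Set (IrrCharacter G)} {D : Subgroup G}
  {f0 : (H20.k M)[G]} {z : G} {S : Setup p M B D f0 z} [Fintype (Cz z)] {L : Loc p M S}
  {ι : Type u}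

/-- With trivial inertial quotient the ordinary and exceptional signs are opposite. -/
theorem Shape.b_eq_neg (Sh : Shape L ι)
    (he : (Subgroup.centralizer (D : Set G)).relIndex (stab D f0) = 1) {χ : IrrCharacter G}
    (hχ : χ ∈ Sh.X) (i : ι) : Sh.b χ * Sh.δ = -1 := by
  classical
  have h := L.sum_n_mul_degree (Sh.rep_mem i)
  have hX : Sh.X = {χ} := by
    obtain ⟨a, ha⟩ := Finset.card_eq_one.1 (Sh.card_X.trans he)
    rw [ha] at hχ ⊢
    rw [Finset.mem_singleton.1 hχ]
  rw [← Finset.sum_subset (Finset.subset_univ ({χ, Sh.Y i} : Finset (IrrCharacter G)))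
    fun ψ _ hψ => ?_] at h
  · rw [Finset.sum_pair fun h1 => Sh.Y_notMem i (by rw [← h1]; exact hχ), Sh.n_X χ hχ, Sh.n_Y] at h
    have h1 : (0 : ℤ) < charDegree (χ : G → ℂ) := by exact_mod_cast H22.charDegree_pos χ
    have h2 : (0 : ℤ) < charDegree (Sh.Y i : G → ℂ) := by exact_mod_cast H22.charDegree_pos _
    rcases Sh.hb χ hχ with hb | hb <;> rcases Sh.hδ with hd | hd <;> rw [hb, hd] at h ⊢ <;>
      first | (norm_num; done) | (exfalso; linarith)
  · simp only [Finset.mem_insert, Finset.mem_singleton, not_or] at hψ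
    by_cases hB : ψ ∈ B
    · rcases (Sh.mem_iff ψ).1 hB with h1 | ⟨j, rfl⟩
      · rw [hX, Finset.mem_singleton] at h1
        exact absurd h1 hψ.1
      · rw [Sh.n_Y_ne i j fun h1 => hψ.2 (congrArg Sh.Y h1).symm, zero_mul]
    · rw [Sh.n_out ψ hB _ (Sh.rep_mem i), zero_mul]

end

/-- The perfect isometry with the Frobenius group. -/
theorem isometry_frobenius {G : Type u} [Group G] [Fintype G] (hM : IsPModular p M)
    {B : Set (IrrCharacter G)} (hB : IsPBlock M B) {P : Subgroup G} (hP1 : P ≠ ⊥)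
    (hcyc : IsCyclic P) {f0 : (H20.k M)[G]} (hmax : IsMax p (eB M B) P f0)
    {F : Type v} [Group F] [Fintype F] {Q : Subgroup F} (hQ : IsCyclic Q)
    (hQcard : Nat.card Q = Nat.card P) (hQC : Subgroup.centralizer (Q : Set F) = Q)
    (hF : Nat.card F =
      Nat.card P * (Subgroup.centralizer (P : Set G)).relIndex (stab P f0)) :
    ∃ (I : IrrCharacter F → IrrCharacter G) (ε : IrrCharacter F → ℤ),
      IsPerfectIsometry p M (Set.univ : Set (IrrCharacter F)) B I ε ∧
      ∀ η η' : IrrCharacter F, (∃ x ∈ Q, (η : F → ℂ) x ≠ (η : F → ℂ) 1) →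
        (∃ x ∈ Q, (η' : F → ℂ) x ≠ (η' : F → ℂ) 1) → ε η = ε η' := by
  classical
  obtain ⟨z, S⟩ := exists_setup hM hB hmax hcyc hP1
  haveI := Fintype.ofFinite (Cz z)
  obtain ⟨L⟩ := exists_loc S
  obtain ⟨ι, _, ⟨Sh⟩⟩ := L.exists_shape
  set e := (Subgroup.centralizer (P : Set G)).relIndex (stab P f0) with hedef
  have he1 : e ∣ p - 1 := S.relIndex_dvd
  have hep : e < p := lt_of_le_of_lt
    (Nat.le_of_dvd (by have := hp.out.two_le; omega) he1) (by have := hp.out.two_le; omega)
  have he0 : 0 < e := Nat.pos_of_ne_zero Subgroup.FiniteIndex.index_ne_zero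
  have hQp : IsPGroup p Q := by
    obtain ⟨n, hn⟩ := IsPGroup.iff_card.1 hmax.1.1
    exact IsPGroup.of_card (hQcard.trans hn)
  have hQi : Q.index = e := by
    have h := Q.card_mul_index
    rw [hF, hQcard] at h
    exact Nat.eq_of_mul_eq_mul_left Nat.card_pos h
  have hSyl : ¬ p ∣ Q.index := by
    rw [hQi]
    exact fun h => absurd (Nat.le_of_dvd he0 h) (by omega)
  haveI hQn : Q.Normal := by
    let PS : Sylow p F := hQp.toSylow hSyl
    have h1 : Nat.card (Sylow p F) ∣ e := hQi ▸ PS.card_dvd_index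
    have h2 : Nat.card (Sylow p F) ≡ 1 [MOD p] := card_sylow_modEq_one p F
    have h3 : Nat.card (Sylow p F) = 1 := by
      have := Nat.le_of_dvd he0 h1
      have h4 : Nat.card (Sylow p F) % p = 1 % p := h2
      rwa [Nat.mod_eq_of_lt (by omega), Nat.mod_eq_of_lt hp.out.one_lt] at h4
    haveI := (Nat.card_eq_one_iff_unique.1 h3).1
    exact (Sylow.normal_of_subsingleton PS :)
  obtain ⟨BF, hBF, rfl, hmaxF, hstab⟩ := exists_max_frobenius (M := M) hM hQp hQC hSyl
  have hQ1 : Q ≠ ⊥ := fun h => hP1 (Subgroup.card_eq_one.1 (by rw [← hQcard, h]; simp))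
  obtain ⟨w, S'⟩ := exists_setup hM hBF hmaxF hQ hQ1
  haveI := Fintype.ofFinite (Cz w)
  obtain ⟨L'⟩ := exists_loc S'
  obtain ⟨ι', _, ⟨Sh'⟩⟩ := L'.exists_shape
  have he' : (Subgroup.centralizer (Q : Set F)).relIndex (stab Q (1 : (H20.k M)[F])) = e := by
    rw [hQC, hstab, Subgroup.relIndex_top_right, hQi]
  obtain ⟨I, ε, hiso, hεY, hεX⟩ := exists_isometry Sh Sh' hQcard.symm (by rw [he', hedef])
  refine ⟨I, ε, hiso, ?_⟩
  have hεpm := hiso.2.1
  haveI : Nonempty ι' := by
    rcases isEmpty_or_nonempty ι' with h | h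
    · exfalso
      have h1 := Sh'.card_ι
      rw [Nat.card_eq_zero.2 (Or.inl h), zero_mul, zero_add] at h1
      haveI : Nontrivial Q := (Subgroup.nontrivial_iff_ne_bot Q).2 hQ1
      exact absurd h1 (Finite.one_lt_card (α := Q)).ne
    · exact h
  obtain ⟨i₁⟩ := ‹Nonempty ι'›
  by_cases hone : e = 1
  · suffices h : ∀ η, ε η = ε (Sh'.Y i₁) from fun η η' _ _ => (h η).trans (h η').symm
    intro η
    rcases (Sh'.mem_iff η).1 (Set.mem_univ η) with h | ⟨i, rfl⟩
    · obtain ⟨i₀⟩ : Nonempty ι := by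
        rcases isEmpty_or_nonempty ι with h0 | h0
        · exfalso
          have h1 := Sh.card_ι
          rw [Nat.card_eq_zero.2 (Or.inl h0), zero_mul, zero_add] at h1
          haveI : Nontrivial P := (Subgroup.nontrivial_iff_ne_bot P).2 hP1
          exact absurd h1 (Finite.one_lt_card (α := P)).ne
        · exact h0
      obtain ⟨hIX, hsign⟩ := hεX η h
      have h1 := hsign i₁
      rw [Sh'.b_eq_neg (he'.trans hone) h i₁, Sh.b_eq_neg hone hIX i₀] at h1
      rcases hεpm η (Set.mem_univ _) with h3 | h3 <;>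
        rcases hεpm (Sh'.Y i₁) (Set.mem_univ _) with h4 | h4 <;> rw [h3, h4] at h1 ⊢ <;> omega
    · exact hεY i i₁
  · -- the characters trivial on `Q`
    have hCQ : Cz w = Q := le_antisymm (fun t ht => hQC.le (S'.mem_cent
      (by rw [hstab]; exact Subgroup.mem_top t) ht)) S'.le_cent
    have hcomm : ∀ a b : Cz w, a * b = b * a := fun a b =>
      Subtype.ext (S'.comm (hCQ.le a.2) (hCQ.le b.2))
    have hbK : L'.bK = Set.univ := by
      refine Set.eq_of_subset_of_ncard_le (Set.subset_univ _) ?_ (Set.toFinite _)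
      rw [Set.ncard_univ, ← Nat.card_coe_set_eq, L'.card_bK,
        Nat.card_congr ((Equiv.subtypeUnivEquiv (H12.irr_apply_one_of_comm hcomm)).symm.trans
          H12.linIrrEquiv.symm)]
      letI : CommGroup (Cz w) := { (inferInstance : Group (Cz w)) with mul_comm := hcomm }
      rw [CommGroup.card_monoidHom_of_hasEnoughRootsOfUnity (Cz w) ℂ, hCQ]
    set τ₀ : IrrCharacter (Cz w) := H12.linIrr (1 : Cz w →* ℂˣ) with hτ₀
    have hη₀ : L'.η₀ = τ₀ := by
      by_contra hne
      refine hone ?_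
      rw [← he', Subgroup.relIndex_eq_one]
      intro t ht
      refine L'.free ht (hbK.symm ▸ Set.mem_univ τ₀) (Ne.symm hne)
        (Subtype.ext (funext fun a => ?_))
      rw [tw_apply (S'.stab_le_Nz ht)]
      simp [hτ₀, H12.linIrr]
    set φ : (F ⧸ Q →* ℂˣ) → IrrCharacter F := fun l =>
      H12.linIrr (l.comp (QuotientGroup.mk' Q)) with hφ
    have hφinj : Function.Injective φ := fun l m h => by
      have := H12.linIrr_injective h
      exact MonoidHom.ext fun q => by
        obtain ⟨a, rfl⟩ := QuotientGroup.mk_surjective q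
        exact DFunLike.congr_fun this a
    have hφtriv : ∀ l, ∀ x ∈ Q, (φ l : F → ℂ) x = (φ l : F → ℂ) 1 := fun l x hx => by
      simp [hφ, H12.linIrr, (QuotientGroup.eq_one_iff x).2 hx]
    have hφn : ∀ l i, L'.n (φ l) (Sh'.rep i) = -1 := by
      intro l i
      apply Int.cast_injective (α := ℂ)
      rw [Loc.n, Int.cast_sub, Int.cast_natCast, Int.cast_natCast, ← H22.Contrib.classInner_res,
        ← H22.Contrib.classInner_res]
      have hres : (fun c : Cz w => (φ l : F → ℂ) c) = (τ₀ : Cz w → ℂ) := funext fun c => by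
        rw [hφtriv l c (hCQ.le c.2)]
        simp [hφ, hτ₀, H12.linIrr]
      rw [hres, hη₀, H12.classInner_irr_self, H12.classInner_irr_ne fun h =>
        Sh'.rep_ne i (h.symm.trans hη₀.symm)]
      simp
    have hφcard : e ≤ Nat.card (F ⧸ Q →* ℂˣ) := by
      rw [H12.card_monoidHom_units, Subgroup.index_eq_card,
        show commutator (F ⧸ Q) = ⊥ from ?_, Nat.card_congr QuotientGroup.quotientBot.toEquiv,
        ← Subgroup.index_eq_card, hQi]
      rw [commutator_eq_closure, Subgroup.closure_eq_bot_iff]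
      rintro _ ⟨a, b, rfl⟩
      obtain ⟨a, rfl⟩ := QuotientGroup.mk_surjective a
      obtain ⟨b, rfl⟩ := QuotientGroup.mk_surjective b
      exact (QuotientGroup.eq_one_iff _).2 (by
        simpa [commutatorElement_def] using commutator_le hQ hQC a b)
    haveI : Finite (F ⧸ Q →* ℂˣ) := Finite.of_injective φ hφinj
    haveI : Fintype (F ⧸ Q →* ℂˣ) := Fintype.ofFinite _
    intro η η' hη hη'
    have hnot : ∀ χ : IrrCharacter F, (∃ x ∈ Q, (χ : F → ℂ) x ≠ (χ : F → ℂ) 1) →
        χ ∉ Finset.univ.image φ := fun χ hχ h => by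
      obtain ⟨l, -, rfl⟩ := Finset.mem_image.1 h
      obtain ⟨x, hx, hne⟩ := hχ
      exact hne (hφtriv l x hx)
    by_cases hι : ∀ i j : ι', i = j
    · -- one exceptional character: one character is not trivial on `Q`
      suffices η = η' by rw [this]
      have hcard : Fintype.card (IrrCharacter F) = e + 1 := by
        rw [← Nat.card_eq_fintype_card, ← Nat.card_univ, Sh'.card_B, Sh'.rank, he',
          Nat.card_eq_one_iff_unique.2 ⟨⟨hι⟩, ⟨i₁⟩⟩]
      by_contra hne
      have h := Finset.card_le_univ (Finset.univ.image φ ∪ {η, η'})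
      rw [Finset.card_union_of_disjoint (by simp [hnot η hη, hnot η' hη']),
        Finset.card_image_of_injective _ hφinj, Finset.card_univ, Finset.card_pair hne,
        ← Nat.card_eq_fintype_card, hcard] at h
      omega
    · -- otherwise the characters trivial on `Q` are the ordinary ones
      push Not at hι
      obtain ⟨i, j, hij⟩ := hι
      have hX : Finset.univ.image φ = Sh'.X := by
        refine Finset.eq_of_subset_of_card_le (fun χ hχ => ?_) ?_
        · obtain ⟨l, -, rfl⟩ := Finset.mem_image.1 hχ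
          refine ((Sh'.mem_iff _).1 (Set.mem_univ _)).resolve_right fun ⟨k, hk⟩ => ?_
          by_cases hki : k = i
          · have := hφn l j
            rw [← hk, Sh'.n_Y_ne j k (hki ▸ (Ne.symm hij))] at this
            omega
          · have := hφn l i
            rw [← hk, Sh'.n_Y_ne i k (Ne.symm hki)] at this
            omega
        · rw [Sh'.card_X, he', Finset.card_image_of_injective _ hφinj, Finset.card_univ,
            ← Nat.card_eq_fintype_card]
          exact hφcard
      obtain ⟨k, rfl⟩ := ((Sh'.mem_iff η).1 (Set.mem_univ _)).resolve_left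
        (hX ▸ hnot η hη)
      obtain ⟨k', rfl⟩ := ((Sh'.mem_iff η').1 (Set.mem_univ _)).resolve_left
        (hX ▸ hnot η' hη')
      exact hεY k k'

end H23.Cyc
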