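import Cfsg.Agent.H23.Cyc.Action
import Cfsg.Agent.H20.FreeAbelian.Lattice

/-!
# The restrictions to the local block

`Loc.n χ η` is the multiplicity of `η - η₀` in the restriction of `χ` to `C(z)`.  The vectors
`n · η` have Gram matrix `e J + I` over the orbits, are orthogonal to the regular elements and
live exactly on the block.
-/

set_option autoImplicit false
set_option linter.style.haveILetI false
set_option linter.unusedSectionVars false
set_option maxHeartbeats 400000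

open Cfsg
open scoped MonoidAlgebra ComplexConjugate

namespace H23.Cyc

universe u

variable {G : Type u} [Group G] [Fintype G]

/-- Column orthogonality as a count. -/
theorem sum_irr_mul_conj [DecidableEq G] (g h : G) :
    ∑ χ : IrrCharacter G, (χ : G → ℂ) g * conj ((χ : G → ℂ) h) =
      ((Finset.univ.filter fun x : G => x * g * x⁻¹ = h).card : ℂ) := by
  classical
  rw [H12.column_orthogonality]
  by_cases hc : IsConj g h
  · rw [if_pos hc]
    obtain ⟨c, hc'⟩ := isConj_iff.1 hc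
    rw [← Fintype.card_subtype, ← Nat.card_eq_fintype_card]
    refine congrArg Nat.cast (Nat.card_congr
      { toFun := fun a => ⟨c * (a : G), ?_⟩
        invFun := fun x => ⟨c⁻¹ * (x : G), ?_⟩
        left_inv := fun a => Subtype.ext (inv_mul_cancel_left c _)
        right_inv := fun x => Subtype.ext (mul_inv_cancel_left c _) })
    · rw [mul_inv_rev, ← mul_assoc, mul_assoc c (a : G) g,
        Subgroup.mem_centralizer_singleton_iff.1 a.2, ← hc']
      group
    · rw [Subgroup.mem_centralizer_singleton_iff]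
      have h1 : (x : G) * g * (x : G)⁻¹ = c * g * c⁻¹ := x.2.trans hc'.symm
      calc c⁻¹ * (x : G) * g = c⁻¹ * ((x : G) * g * (x : G)⁻¹) * (x : G) := by group
        _ = c⁻¹ * (c * g * c⁻¹) * (x : G) := by rw [h1]
        _ = g * (c⁻¹ * (x : G)) := by group
  · rw [if_neg hc, eq_comm, Nat.cast_eq_zero, Finset.card_eq_zero, Finset.filter_eq_empty_iff]
    exact fun x _ h => hc (isConj_iff.2 ⟨x, h⟩)

variable {p : ℕ} [hp : Fact p.Prime] {M : Ideal AlgInt}
  [hMp : M.IsPrime] [CharP (H20.k M) p] [IsAlgClosed (H20.k M)]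

namespace Loc

variable {B : Set (IrrCharacter G)} {D : Subgroup G} {f0 : (H20.k M)[G]} {z : G}
  {S : Setup p M B D f0 z} [Fintype (Cz z)] (L : Loc p M S)

/-- The multiplicity of `η - η₀` in the restriction of `χ`. -/
noncomputable def n (χ : IrrCharacter G) (η : IrrCharacter (Cz z)) : ℤ :=
  (H22.Contrib.nres (Cz z) χ η : ℤ) - (H22.Contrib.nres (Cz z) χ L.η₀ : ℤ)

include L

theorem n_η₀ (χ : IrrCharacter G) : L.n χ L.η₀ = 0 := sub_self _

theorem n_cast (χ : IrrCharacter G) (η : IrrCharacter (Cz z)) :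
    (L.n χ η : ℂ) = classInner (fun c : Cz z => (χ : G → ℂ) c)
      (fun c => (η : Cz z → ℂ) c - (L.η₀ : Cz z → ℂ) c) := by
  rw [n, Int.cast_sub, Int.cast_natCast, Int.cast_natCast, ← H22.Contrib.classInner_res,
    ← H22.Contrib.classInner_res]
  simp only [H12.classInner_def, map_sub, mul_sub, Finset.sum_sub_distrib]

theorem n_cast_conj (χ : IrrCharacter G) (η : IrrCharacter (Cz z)) :
    (L.n χ η : ℂ) = (Nat.card (Cz z) : ℂ)⁻¹ * ∑ c : Cz z,
      ((η : Cz z → ℂ) c - (L.η₀ : Cz z → ℂ) c) * conj ((χ : G → ℂ) c) := by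
  have h := congrArg conj (L.n_cast χ η)
  rw [map_intCast] at h
  rw [h, H12.classInner_def]
  simp only [map_mul, map_inv₀, map_natCast, map_sum, Complex.conj_conj]
  exact congrArg _ (Finset.sum_congr rfl fun c _ => mul_comm _ _)

theorem n_tw (χ : IrrCharacter G) {t : G} (ht : t ∈ stab D f0) (η : IrrCharacter (Cz z)) :
    L.n χ (tw t η) = L.n χ η := by
  apply Int.cast_injective (α := ℂ)
  rw [n_cast, n_cast]
  have hN := S.stab_le_Nz ht
  conv_lhs => rw [← L.tw_η₀ ht]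
  rw [H12.classInner_def, H12.classInner_def]
  congr 1
  refine Fintype.sum_equiv (cjEquiv (cjS_Cz (z := z) hN)).toEquiv _ _ fun c => ?_
  have e : (cjEquiv (cjS_Cz (z := z) hN) c : Cz z) = ⟨t * c * t⁻¹, conj_mem_Cz hN c⟩ :=
    Subtype.ext (coe_cjEquiv _ c)
  simp only [tw_apply hN, MulEquiv.toEquiv_eq_coe, MulEquiv.coe_toEquiv, e]
  rw [H12.irr_isClassFunction χ (c : G) t]

theorem apply_sub_eq_zero_of_reg {η : IrrCharacter (Cz z)} (hη : η ∈ L.bK) {c : Cz z}
    (hc : ¬ p ∣ orderOf c) : (η : Cz z → ℂ) c - (L.η₀ : Cz z → ℂ) c = 0 := by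
  obtain ⟨l, rfl⟩ := L.exists_ξ_eq hη
  obtain ⟨l0, hl0⟩ := L.exists_ξ_eq L.η₀_mem
  rw [← hl0, L.ξ_reg l hc, L.ξ_reg l0 hc, sub_self]

/-- The differences live on elements whose `p`-part has `z` among its powers. -/
theorem z_mem_of_ne_zero {η : IrrCharacter (Cz z)} (hη : η ∈ L.bK) {c : Cz z}
    (h : (η : Cz z → ℂ) c - (L.η₀ : Cz z → ℂ) c ≠ 0) :
    z ∈ Subgroup.zpowers (H20.pPart p (c : G)) := by
  obtain ⟨η', hη', hne⟩ : ∃ η' ∈ L.bK, (η' : Cz z → ℂ) c ≠ 0 := by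
    by_cases h0 : (η : Cz z → ℂ) c = 0
    · exact ⟨L.η₀, L.η₀_mem, fun h1 => h (by rw [h0, h1, sub_self])⟩
    · exact ⟨η, hη, h0⟩
  obtain ⟨x, hx⟩ := L.exists_conj_of_ne_zero hη' hne
  have hv : H20.pPart p c ≠ 1 := fun h1 =>
    h (L.apply_sub_eq_zero_of_reg hη (H20.pPart_eq_one_iff.1 h1))
  have hw1 : ((x⁻¹ * H20.pPart p c * x : Cz z) : G) ≠ 1 := fun h1 => hv (by
    have h2 : x⁻¹ * H20.pPart p c * x = 1 := Subtype.ext h1
    have := congrArg (fun w => x * w * x⁻¹) h2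
    simpa [mul_assoc] using this)
  obtain ⟨i, hi⟩ := Subgroup.mem_zpowers_iff.1 (S.z_mem_zpowers hx hw1)
  refine Subgroup.mem_zpowers_iff.2 ⟨i, ?_⟩
  rw [Subgroup.coe_subtype] at hi
  have h1 : (x : G)⁻¹ * H20.pPart p (c : G) * (x : G) = ((x⁻¹ * H20.pPart p c * x : Cz z) : G) := by
    rw [H20.pPart_coe]
    rfl
  have h2 : (H20.pPart p (c : G)) =
      (x : G) * ((x⁻¹ * H20.pPart p c * x : Cz z) : G) * (x : G)⁻¹ := by
    rw [← h1]; group
  rw [h2, conj_zpow, hi, mul_inv_eq_iff_eq_mul]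
  exact Subgroup.mem_centralizer_singleton_iff.1 x.2

theorem mem_Nz_of_ne_zero {η η' : IrrCharacter (Cz z)} (hη : η ∈ L.bK) (hη' : η' ∈ L.bK)
    {x : G} {c c' : Cz z} (hx : x * (c : G) * x⁻¹ = c')
    (h : (η : Cz z → ℂ) c - (L.η₀ : Cz z → ℂ) c ≠ 0)
    (h' : (η' : Cz z → ℂ) c' - (L.η₀ : Cz z → ℂ) c' ≠ 0) : x ∈ Nz z := by
  obtain ⟨i, hi⟩ := Subgroup.mem_zpowers_iff.1 (L.z_mem_of_ne_zero hη h)
  have hz' := L.z_mem_of_ne_zero hη' h'
  have hxz : x * z * x⁻¹ ∈ Subgroup.zpowers (H20.pPart p (c' : G)) :=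
    Subgroup.mem_zpowers_iff.2 ⟨i, by rw [← hx, H20.pPart_conj, conj_zpow, hi]⟩
  refine mem_normalizer_of_cjS_eq ?_
  rw [cjS_zpowers]
  refine H19.CyclicLocal.eq_of_card_eq (P := Subgroup.zpowers (H20.pPart p (c' : G)))
    inferInstance (Subgroup.zpowers_le.2 hxz) (Subgroup.zpowers_le.2 hz') ?_
  rw [Nat.card_zpowers, Nat.card_zpowers]
  exact (MulAut.conj x).orderOf_eq z

variable {R : Finset G}

/-- The Gram matrix of the multiplicity vectors. -/
theorem gram [DecidableEq G] (hR : ∀ r ∈ R, r ∈ stab D f0)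
    (hR1 : ∀ t ∈ stab D f0, ∃ r ∈ R, r⁻¹ * t ∈ Subgroup.centralizer (D : Set G))
    (hR2 : ∀ r ∈ R, ∀ r' ∈ R, r⁻¹ * r' ∈ Subgroup.centralizer (D : Set G) → r = r')
    {η η' : IrrCharacter (Cz z)} (hη : η ∈ L.bK) (hη' : η' ∈ L.bK) (hne : η ≠ L.η₀)
    (hne' : η' ≠ L.η₀) [DecidableEq (IrrCharacter (Cz z))] :
    ∑ χ : IrrCharacter G, L.n χ η * L.n χ η' =
      (R.card : ℤ) + ((R.filter fun r => tw r η' = η).card : ℤ) := by
  classical
  apply Int.cast_injective (α := ℂ)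
  push_cast
  set f : Cz z → ℂ := fun c => (η : Cz z → ℂ) c - (L.η₀ : Cz z → ℂ) c with hf
  set f' : Cz z → ℂ := fun c => (η' : Cz z → ℂ) c - (L.η₀ : Cz z → ℂ) c with hf'
  have hK : (Nat.card (Cz z) : ℂ) ≠ 0 := Nat.cast_ne_zero.2 Nat.card_pos.ne'
  have h1 : ∑ χ : IrrCharacter G, (L.n χ η : ℂ) * (L.n χ η' : ℂ) =
      (Nat.card (Cz z) : ℂ)⁻¹ * (Nat.card (Cz z) : ℂ)⁻¹ * ∑ x : G, ∑ c : Cz z,
        conj (f c) * ∑ c' : Cz z, (if x * (c : G) * x⁻¹ = c' then f' c' else 0) := by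
    simp only [L.n_cast _ η, L.n_cast_conj _ η', H12.classInner_def]
    simp only [mul_mul_mul_comm _ _ ((Nat.card (Cz z) : ℂ)⁻¹)]
    rw [← Finset.mul_sum]
    congr 1
    simp only [Finset.sum_mul_sum]
    simp only [Finset.mul_sum]
    refine Eq.trans Finset.sum_comm ?_
    refine Eq.trans ?_ Finset.sum_comm
    refine Finset.sum_congr rfl fun c _ => ?_
    refine Eq.trans Finset.sum_comm ?_
    refine Eq.trans ?_ Finset.sum_comm
    refine Finset.sum_congr rfl fun c' _ => ?_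
    rw [Finset.sum_congr rfl fun (χ : IrrCharacter G) _ => show (χ : G → ℂ) c * conj (f c) *
      (f' c' * conj ((χ : G → ℂ) c')) =
        conj (f c) * f' c' * ((χ : G → ℂ) c * conj ((χ : G → ℂ) c')) by ring]
    rw [← Finset.mul_sum, sum_irr_mul_conj, Finset.natCast_card_filter, Finset.mul_sum]
    exact Finset.sum_congr rfl fun x _ => by split_ifs <;> ring
  rw [h1]
  set F : G → ℂ := fun x => (Nat.card (Cz z) : ℂ)⁻¹ * ∑ c : Cz z,
    conj (f c) * ∑ c' : Cz z, (if x * (c : G) * x⁻¹ = c' then f' c' else 0) with hF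
  have hF0 : ∀ x, x ∉ Nz z → F x = 0 := fun x hx => by
    refine mul_eq_zero_of_right _ (Finset.sum_eq_zero fun c _ => ?_)
    by_cases hc : f c = 0
    · rw [hc, map_zero, zero_mul]
    refine mul_eq_zero_of_right _ (Finset.sum_eq_zero fun c' _ => ?_)
    split_ifs with h
    · by_contra hc'
      exact hx (L.mem_Nz_of_ne_zero hη hη' h hc hc')
    · rfl
  have hδ : ∀ a b : IrrCharacter (Cz z), classInner (a : Cz z → ℂ) b = if a = b then 1 else 0 :=
    fun a b => by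
      split_ifs with h
      · rw [h, H12.classInner_irr_self]
      · exact H12.classInner_irr_ne h
  have hFN : ∀ x, x ∈ Nz z → F x = (if tw x η' = η then 1 else 0) -
      (if tw x η' = L.η₀ then 1 else 0) - ((if tw x L.η₀ = η then 1 else 0) -
        if tw x L.η₀ = L.η₀ then 1 else 0) := by
    intro x hx
    rw [← hδ, ← hδ, ← hδ, ← hδ, hF]
    simp only [H12.classInner_def, ← mul_sub, ← Finset.sum_sub_distrib]
    refine congrArg _ (Finset.sum_congr rfl fun c _ => ?_)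
    rw [Finset.sum_eq_single (⟨x * c * x⁻¹, conj_mem_Cz hx c⟩ : Cz z)
      (fun c' _ hc' => if_neg fun h => hc' (Subtype.ext h.symm))
      (fun h => absurd (Finset.mem_univ _) h), if_pos rfl]
    simp only [hf, hf', map_sub, tw_apply hx]
    ring
  set Im : Finset G := (R ×ˢ (Finset.univ : Finset (Cz z))).image fun rc => rc.1 * (rc.2 : G)
  have hinj : Set.InjOn (fun rc : G × Cz z => rc.1 * (rc.2 : G))
      ↑(R ×ˢ (Finset.univ : Finset (Cz z))) := by
    rintro ⟨r, c⟩ hrc ⟨r', c'⟩ hrc' h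
    simp only [Finset.coe_product, Set.mem_prod, Finset.mem_coe] at hrc hrc' h
    have hrr : r⁻¹ * r' = (c : G) * (c' : G)⁻¹ := by
      rw [eq_mul_inv_iff_mul_eq, mul_assoc, ← h, inv_mul_cancel_left]
    obtain rfl := hR2 r hrc.1 r' hrc'.1 (S.mem_cent (mul_mem (inv_mem (hR r hrc.1)) (hR r' hrc'.1))
      (by rw [hrr]; exact mul_mem c.2 (inv_mem c'.2)))
    exact Prod.ext rfl (Subtype.ext (mul_left_cancel h))
  have hout : ∀ x, x ∉ Im → F x = 0 := fun x hx => by
    by_cases hN : x ∈ Nz z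
    · have key : ∀ a b : IrrCharacter (Cz z), a ∈ L.bK → b ∈ L.bK → tw x a ≠ b := by
        intro a b ha hb hab
        obtain ⟨t, ht, htx⟩ := S.exists_split hN (L.cj_fz_of_mem hN ha (hab ▸ hb))
        obtain ⟨r, hr, hrt⟩ := hR1 t ht
        refine hx (Finset.mem_image.2 ⟨(r, ⟨r⁻¹ * t * (t⁻¹ * x),
          mul_mem (S.cent_le hrt) htx⟩), Finset.mem_product.2 ⟨hr, Finset.mem_univ _⟩, ?_⟩)
        show r * (r⁻¹ * t * (t⁻¹ * x)) = x
        group
      rw [hFN x hN, if_neg (key _ _ hη' hη), if_neg (key _ _ hη' L.η₀_mem),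
        if_neg (key _ _ L.η₀_mem hη), if_neg (key _ _ L.η₀_mem L.η₀_mem)]
      simp
    · exact hF0 x hN
  rw [mul_assoc, Finset.mul_sum (s := (Finset.univ : Finset G)),
    show ∀ (y : ℂ), y * ∑ x : G, F x = y * ∑ x ∈ Im, F x from fun y =>
      congrArg _ (Finset.sum_subset (Finset.subset_univ Im) fun x _ hx => hout x hx).symm,
    Finset.sum_image hinj, Finset.sum_product]
  have hin : ∀ r ∈ R, ∀ c : Cz z, F (r * (c : G)) = (if tw r η' = η then 1 else 0) + 1 := by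
    intro r hr c
    have hrN := S.stab_le_Nz (hR r hr)
    have htw : ∀ a, tw (r * (c : G)) a = tw r a := fun a => by
      rw [tw_mul hrN (Cz_le_Nz z c.2), tw_of_mem_Cz c.2]
    rw [hFN _ (mul_mem hrN (Cz_le_Nz z c.2)), htw, htw, L.tw_η₀ (hR r hr), if_pos rfl,
      if_neg hne.symm, if_neg (fun h : tw r η' = L.η₀ =>
        hne' (tw_injective hrN (h.trans (L.tw_η₀ (hR r hr)).symm)))]
    ring
  rw [Finset.sum_congr rfl fun r hr => Finset.sum_congr rfl fun c _ => hin r hr c]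
  simp only [Finset.sum_const, Finset.card_univ, nsmul_eq_mul, ← Nat.card_eq_fintype_card,
    ← Finset.mul_sum, Finset.sum_add_distrib, Finset.sum_boole]
  rw [mul_one, ← mul_assoc, inv_mul_cancel₀ hK, one_mul, add_comm]

/-- The vectors are orthogonal to the values at regular elements. -/
theorem sum_n_mul_reg {η : IrrCharacter (Cz z)} (hη : η ∈ L.bK) {g : G} (hg : ¬ p ∣ orderOf g) :
    ∑ χ : IrrCharacter G, (L.n χ η : ℂ) * (χ : G → ℂ) g = 0 := by
  classical
  simp only [L.n_cast_conj _ η, Finset.mul_sum, Finset.sum_mul]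
  rw [Finset.sum_comm]
  refine Finset.sum_eq_zero fun c _ => ?_
  by_cases hc : p ∣ orderOf c
  · rw [Finset.sum_congr rfl fun (χ : IrrCharacter G) _ => show (Nat.card (Cz z) : ℂ)⁻¹ *
      (((η : Cz z → ℂ) c - (L.η₀ : Cz z → ℂ) c) * conj ((χ : G → ℂ) c)) * (χ : G → ℂ) g =
        (Nat.card (Cz z) : ℂ)⁻¹ * ((η : Cz z → ℂ) c - (L.η₀ : Cz z → ℂ) c) *
          ((χ : G → ℂ) g * conj ((χ : G → ℂ) c)) by ring, ← Finset.mul_sum,
      H12.column_orthogonality, if_neg, mul_zero]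
    intro h
    refine hg ?_
    obtain ⟨x, hx⟩ := isConj_iff.1 h.symm
    rw [← hx, show x * (c : G) * x⁻¹ = MulAut.conj x (c : G) from rfl, MulEquiv.orderOf_eq,
      Subgroup.orderOf_coe]
    exact hc
  · exact Finset.sum_eq_zero fun χ _ => by rw [L.apply_sub_eq_zero_of_reg hη hc]; ring

theorem sum_n_mul_degree {η : IrrCharacter (Cz z)} (hη : η ∈ L.bK) :
    ∑ χ : IrrCharacter G, L.n χ η * (charDegree (χ : G → ℂ) : ℤ) = 0 := by
  apply Int.cast_injective (α := ℂ)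
  rw [Int.cast_sum, Int.cast_zero, ← L.sum_n_mul_reg hη (g := 1)
    (by rw [orderOf_one]; exact hp.out.not_dvd_one)]
  refine Finset.sum_congr rfl fun χ _ => ?_
  rw [Int.cast_mul, Int.cast_natCast, H22.irr_one_eq_charDegree]

/-- The section of `(u, bl u)` seen through the restriction. -/
theorem T_section [Fintype (D.subgroupOf (Cz z) →* ℂˣ)] (χ : IrrCharacter G)
    {u : D.subgroupOf (Cz z)} (hu : u ≠ 1) {g : Cz z} (hg : H20.pPart p g = (u : Cz z)) :
    T χ (g : G) (emb (Cz z) (L.bl u)) =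
      T L.χ₀ g (L.bl u) * ∑ l, (L.n χ (L.ξ l) : ℂ) * (l u : ℂ) := by
  classical
  have hin : InBlk (eB M L.bK) (Subgroup.zpowers (u : Cz z)) (L.bl u) :=
    ((L.bl_le u).inBlk_iff p (cidem_eB L.isBlock)).1 L.hmax.2.1
  have hpair : IsPair p (Subgroup.zpowers (u : Cz z)) (L.bl u) :=
    (L.bl_le u).pair_left p L.hmax.1
  rw [T_emb χ (isId_of_mem_Bls (hg ▸ L.bl_mem u))]
  have hout : ∀ η ∈ (Finset.univ : Finset (IrrCharacter (Cz z))), η ∉ Finset.univ.image L.ξ →
      (H22.Contrib.nres (Cz z) χ η : ℂ) * T η g (L.bl u) = 0 := by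
    intro η _ hη
    refine mul_eq_zero_of_right _ (T_eq_zero_of_not_inBlk S.hM (H20.isPBlock_blockOf η)
      (H20.mem_blockOf_self η) (hg ▸ L.bl_mem u) fun h => hη ?_)
    rw [hg] at h
    have := eB_injective (H20.isPBlock_blockOf η) L.isBlock
      (inBlk_unique p hpair (isBlk_eB (H20.isPBlock_blockOf η)) (isBlk_eB L.isBlock) h hin)
    obtain ⟨l, hl⟩ := L.exists_ξ_eq (this ▸ H20.mem_blockOf_self η)
    exact Finset.mem_image.2 ⟨l, Finset.mem_univ _, hl⟩
  rw [← Finset.sum_subset (Finset.subset_univ _) hout,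
    Finset.sum_image (fun a _ b _ h => L.ξ_injective h), Finset.mul_sum]
  letI : CommGroup (D.subgroupOf (Cz z)) :=
    { (inferInstance : Group (D.subgroupOf (Cz z))) with
      mul_comm := fun a b => Subtype.ext (Subtype.ext (S.comm a.2 b.2)) }
  obtain ⟨m, hm⟩ := CommGroup.exists_apply_ne_one_of_hasEnoughRootsOfUnity
    (D.subgroupOf (Cz z)) ℂ hu
  have h0 : ∑ l : D.subgroupOf (Cz z) →* ℂˣ, (l u : ℂ) = 0 := by
    have h := Fintype.sum_equiv (Equiv.mulLeft m) (fun l => ((m * l) u : ℂ)) (fun l => (l u : ℂ))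
      fun l => rfl
    simp only [MonoidHom.mul_apply, Units.val_mul, ← Finset.mul_sum] at h
    rw [← sub_eq_zero, ← sub_one_mul, mul_eq_zero, sub_eq_zero] at h
    exact h.resolve_left fun h1 => hm (Units.ext h1)
  calc ∑ l, (H22.Contrib.nres (Cz z) χ (L.ξ l) : ℂ) * T (L.ξ l) g (L.bl u)
      = ∑ l, (T L.χ₀ g (L.bl u) * ((L.n χ (L.ξ l) : ℂ) * (l u : ℂ)) +
          T L.χ₀ g (L.bl u) * (H22.Contrib.nres (Cz z) χ L.η₀ : ℂ) * (l u : ℂ)) :=
        Finset.sum_congr rfl fun l _ => by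
          rw [L.T_ξ l u hg, n, Int.cast_sub, Int.cast_natCast, Int.cast_natCast]
          ring
    _ = _ := by rw [Finset.sum_add_distrib, ← Finset.mul_sum _ _ (T _ _ _ * _), h0, mul_zero,
      add_zero]

end Loc

end H23.Cyc
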