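import Cfsg.Agent.H22.Divis
import Cfsg.Agent.H22.Contrib
import Cfsg.Prelude.Def_BlockLocal

/-!
# Matched columns give a perfect function

`ColData`: singular values of the characters of a set `B` are combinations of columns `A u`, the
columns are orthogonal to the regular elements and their products are divisible by `q`.
-/

set_option autoImplicit false
set_option linter.style.haveILetI false
set_option linter.unusedSectionVars false

open Cfsg

namespace H23.Cyc

universe u v

variable {p : ℕ} [hp : Fact p.Prime] {M : Ideal AlgInt} [hMp : M.IsPrime]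

/-- A local combination vanishing at singular elements is divisible by the centralizers. -/
theorem div_card_memRing {G : Type u} [Group G] [Fintype G] (hM : IsPModular p M)
    {s : Finset (IrrCharacter G)} {c : IrrCharacter G → ℂ} (hc : ∀ χ ∈ s, MemLocalRing M (c χ))
    (hvan : ∀ x : G, p ∣ orderOf x → ∑ χ ∈ s, c χ * (χ : G → ℂ) x = 0)
    {g : G} (hg : ¬ p ∣ orderOf g) :
    MemLocalRing M ((∑ χ ∈ s, c χ * (χ : G → ℂ) g) /
      (Nat.card (Subgroup.centralizer ({g} : Set G)) : ℂ)) := by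
  have h := H22.div_cenExp_memRing (M := M) (p := p)
    (θ := fun x => ∑ χ ∈ s, c χ * (χ : G → ℂ) x) (fun x => rfl) hvan hc hg
  have hcard : (Nat.card (Subgroup.centralizer ({g} : Set G)) : ℂ) =
      (p : ℂ) ^ H22.cenExp p g * ((Nat.card (Subgroup.centralizer ({g} : Set G)) /
        p ^ (Nat.card (Subgroup.centralizer ({g} : Set G))).factorization p : ℕ) : ℂ) := by
    rw [H22.cenExp, ← Nat.cast_pow, ← Nat.cast_mul, Nat.ordProj_mul_ordCompl_eq_self]
  rw [hcard, ← div_div, div_eq_mul_inv]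
  exact H20.memRing_mul h
    (H20.inv_natCast_memRing hM (Nat.not_dvd_ordCompl hp.out Nat.card_pos.ne'))

/-- The properties of the columns. -/
structure ColData {G : Type u} [Group G] [Fintype G] (p : ℕ) (M : Ideal AlgInt)
    (B : Set (IrrCharacter G)) {U : Type*} [Fintype U] (q : ℕ) (A : U → IrrCharacter G → ℂ) :
    Prop where
  orth : ∀ u w, ∃ c : ℂ, MemLocalRing M c ∧
    ∑ χ ∈ H22.blockFinset B, A u χ * A w χ = (q : ℂ) * c
  reg : ∀ u, ∀ y : G, ¬ p ∣ orderOf y →
    ∑ χ ∈ H22.blockFinset B, A u χ * (χ : G → ℂ) y = 0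
  expand : ∀ g : G, p ∣ orderOf g → ∃ v : U → ℂ,
    (∀ χ ∈ B, (χ : G → ℂ) g = ∑ u, A u χ * v u) ∧
    ∀ u, MemLocalRing M (v u) ∧
      MemLocalRing M ((q : ℂ) * v u / (Nat.card (Subgroup.centralizer ({g} : Set G)) : ℂ))

/-- Matched columns give a perfect function. -/
theorem isPerfectFun_of_match {G : Type u} [Group G] [Fintype G] {H : Type v} [Group H] [Fintype H]
    (hM : IsPModular p M) {B : Set (IrrCharacter G)} {c : Set (IrrCharacter H)}
    {U U' : Type*} [Fintype U] [Fintype U'] {q : ℕ} {A : U → IrrCharacter G → ℂ}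
    {A' : U' → IrrCharacter H → ℂ}
    (ha : ColData p M B q A) (ha' : ColData p M c q A') (φ : U ≃ U')
    {I : IrrCharacter H → IrrCharacter G} {ε : IrrCharacter H → ℤ} (hI : Set.BijOn I c B)
    (hε : ∀ η ∈ c, ε η = 1 ∨ ε η = -1)
    (hmatch : ∀ u, ∀ η ∈ c, A' (φ u) η = (ε η : ℂ) * A u (I η)) :
    IsPerfectFun p M (signedBijectionKernel c I ε) := by
  classical
  have hreindex : ∀ f : IrrCharacter G → ℂ,
      ∑ η ∈ H22.blockFinset c, f (I η) = ∑ χ ∈ H22.blockFinset B, f χ := fun f =>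
    Finset.sum_nbij I (fun η hη => H22.mem_blockFinset.2 (hI.1 (H22.mem_blockFinset.1 hη)))
      (fun η hη η' hη' h => hI.2.1 (H22.mem_blockFinset.1 hη) (H22.mem_blockFinset.1 hη') h)
      (fun χ hχ => by
        obtain ⟨η, hη, h⟩ := hI.2.2 (H22.mem_blockFinset.1 hχ)
        exact ⟨η, H22.mem_blockFinset.2 hη, h⟩) (fun η _ => rfl)
  have hε2 : ∀ η ∈ c, (ε η : ℂ) * (ε η : ℂ) = 1 := fun η hη => by
    rcases hε η hη with h | h <;> rw [h] <;> norm_num
  have h00 := H20.memRing_of_isIntegral (M := M) isIntegral_zero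
  intro x y
  have hμ : signedBijectionKernel c I ε x y =
      ∑ η ∈ H22.blockFinset c, (ε η : ℂ) * (I η : G → ℂ) x * (η : H → ℂ) y :=
    H22.finsum_mem_block _ _
  -- the kernel at a singular `x` and at a singular `y`
  have hxs : ∀ x : G, p ∣ orderOf x → ∀ y : H, ¬ p ∣ orderOf y →
      ∑ η ∈ H22.blockFinset c, (ε η : ℂ) * (I η : G → ℂ) x * (η : H → ℂ) y = 0 := by
    intro x hx y hy
    obtain ⟨v, hv, -⟩ := ha.expand x hx
    rw [Finset.sum_congr rfl fun η hη => show (ε η : ℂ) * (I η : G → ℂ) x * (η : H → ℂ) y =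
      ∑ u, v u * (A' (φ u) η * (η : H → ℂ) y) by
        have hη' := H22.mem_blockFinset.1 hη
        rw [hv _ (hI.1 hη'), Finset.mul_sum, Finset.sum_mul]
        exact Finset.sum_congr rfl fun u _ => by rw [hmatch u η hη']; ring, Finset.sum_comm]
    exact Finset.sum_eq_zero fun u _ => by rw [← Finset.mul_sum, ha'.reg (φ u) y hy, mul_zero]
  have hys : ∀ x : G, ¬ p ∣ orderOf x → ∀ y : H, p ∣ orderOf y →
      ∑ η ∈ H22.blockFinset c, (ε η : ℂ) * (I η : G → ℂ) x * (η : H → ℂ) y = 0 := by
    intro x hx y hy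
    obtain ⟨w, hw, -⟩ := ha'.expand y hy
    rw [Finset.sum_congr rfl fun η hη => show (ε η : ℂ) * (I η : G → ℂ) x * (η : H → ℂ) y =
      ∑ u, w (φ u) * (A u (I η) * (I η : G → ℂ) x) by
        have hη' := H22.mem_blockFinset.1 hη
        rw [hw _ hη', ← φ.sum_comp (fun u' => A' u' η * w u'), Finset.mul_sum]
        refine Finset.sum_congr rfl fun u _ => ?_
        rw [hmatch u η hη']
        calc _ = (ε η : ℂ) * (ε η : ℂ) * (w (φ u) * (A u (I η) * (I η : G → ℂ) x)) := by ring
          _ = _ := by rw [hε2 η hη', one_mul],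
      Finset.sum_comm]
    exact Finset.sum_eq_zero fun u _ => by
      rw [← Finset.mul_sum, hreindex fun χ => A u χ * (χ : G → ℂ) x, ha.reg u x hx, mul_zero]
  by_cases hx : p ∣ orderOf x <;> by_cases hy : p ∣ orderOf y
  · -- both singular
    obtain ⟨v, hv, hvR⟩ := ha.expand x hx
    obtain ⟨w, hw, hwR⟩ := ha'.expand y hy
    choose cc hcc hcq using ha.orth
    have hq : signedBijectionKernel c I ε x y =
        ∑ u, ∑ u₁, (q : ℂ) * (cc u u₁ * (v u * w (φ u₁))) := by
      rw [hμ, Finset.sum_congr rfl fun η hη => show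
        (ε η : ℂ) * (I η : G → ℂ) x * (η : H → ℂ) y =
          ∑ u, ∑ u₁, v u * w (φ u₁) * (A u (I η) * A u₁ (I η)) by
        have hη' := H22.mem_blockFinset.1 hη
        rw [hv _ (hI.1 hη'), hw _ hη', ← φ.sum_comp (fun u' => A' u' η * w u'),
          mul_assoc, Finset.sum_mul_sum, Finset.mul_sum]
        refine Finset.sum_congr rfl fun u _ => ?_
        rw [Finset.mul_sum]
        refine Finset.sum_congr rfl fun u₁ _ => ?_
        rw [hmatch u₁ η hη']
        calc _ = (ε η : ℂ) * (ε η : ℂ) * (v u * w (φ u₁) * (A u (I η) * A u₁ (I η))) := by ring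
          _ = _ := by rw [hε2 η hη', one_mul], Finset.sum_comm]
      refine Finset.sum_congr rfl fun u _ => ?_
      rw [Finset.sum_comm]
      refine Finset.sum_congr rfl fun u₁ _ => ?_
      rw [← Finset.mul_sum, hreindex fun χ => A u χ * A u₁ χ, hcq]
      ring
    refine ⟨?_, ?_, Or.inl (by simp [IsPRegular, hx, hy])⟩
    · rw [hq, Finset.sum_div]
      refine H20.memRing_sum _ _ fun u _ => ?_
      rw [Finset.sum_div]
      refine H20.memRing_sum _ _ fun u₁ _ => ?_
      rw [show (q : ℂ) * (cc u u₁ * (v u * w (φ u₁))) /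
        (Nat.card (Subgroup.centralizer ({x} : Set G)) : ℂ) =
        cc u u₁ * ((q : ℂ) * v u / (Nat.card (Subgroup.centralizer ({x} : Set G)) : ℂ) *
          w (φ u₁)) by ring]
      exact H20.memRing_mul (hcc u u₁) (H20.memRing_mul (hvR u).2 (hwR _).1)
    · rw [hq, Finset.sum_div]
      refine H20.memRing_sum _ _ fun u _ => ?_
      rw [Finset.sum_div]
      refine H20.memRing_sum _ _ fun u₁ _ => ?_
      rw [show (q : ℂ) * (cc u u₁ * (v u * w (φ u₁))) /
        (Nat.card (Subgroup.centralizer ({y} : Set H)) : ℂ) =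
        cc u u₁ * (v u *
          ((q : ℂ) * w (φ u₁) / (Nat.card (Subgroup.centralizer ({y} : Set H)) : ℂ))) by ring]
      exact H20.memRing_mul (hcc u u₁) (H20.memRing_mul (hvR u).1 (hwR _).2)
  · have h0 : signedBijectionKernel c I ε x y = 0 := by rw [hμ, hxs x hx y hy]
    exact ⟨by rw [h0, zero_div]; exact h00, by rw [h0, zero_div]; exact h00, Or.inr h0⟩
  · have h0 : signedBijectionKernel c I ε x y = 0 := by rw [hμ, hys x hx y hy]
    exact ⟨by rw [h0, zero_div]; exact h00, by rw [h0, zero_div]; exact h00, Or.inr h0⟩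
  · -- both regular
    refine ⟨?_, ?_, Or.inl (by simp [IsPRegular, hx, hy])⟩
    · set J : IrrCharacter G → IrrCharacter H := Function.invFunOn I c with hJ
      have hJI : ∀ η ∈ c, J (I η) = η := fun η hη => hI.2.1.leftInvOn_invFunOn hη
      have e : ∀ g : G, ∑ η ∈ H22.blockFinset c, (ε η : ℂ) * (I η : G → ℂ) g * (η : H → ℂ) y =
          ∑ χ ∈ H22.blockFinset B, (ε (J χ) : ℂ) * (J χ : H → ℂ) y * (χ : G → ℂ) g := fun g => by
        rw [← hreindex fun χ => (ε (J χ) : ℂ) * (J χ : H → ℂ) y * (χ : G → ℂ) g]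
        exact Finset.sum_congr rfl fun η hη => by rw [hJI η (H22.mem_blockFinset.1 hη)]; ring
      rw [hμ, e]
      refine div_card_memRing hM
        (fun χ _ => H20.memRing_mul (H20.memRing_intCast _) (H20.memRing_irr _ _))
        (fun g hg => ?_) hx
      rw [← e]
      exact hxs g hg y hy
    · rw [hμ]
      exact div_card_memRing (c := fun η => (ε η : ℂ) * (I η : G → ℂ) x) hM
        (fun η _ => H20.memRing_mul (H20.memRing_intCast _) (H20.memRing_irr _ _))
        (fun g hg => hys x hx g hg) hy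

end H23.Cyc
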