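import Cfsg.Agent.H23.Cyc.Gram
import Cfsg.Agent.H22.Divis

/-!
# The values at singular elements

On a singular element every character of the block is the same combination of the functions
`u ↦ ∑ l, N χ l * l u` on `D`, with coefficients divisible by the centralizer up to `|D|`.
-/

set_option autoImplicit false
set_option linter.style.haveILetI false
set_option linter.unusedSectionVars false
set_option maxHeartbeats 400000

open Cfsg
open scoped MonoidAlgebra ComplexConjugate

namespace H23.Cyc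

universe u

variable {G : Type u} [Group G] [Fintype G] {p : ℕ} [hp : Fact p.Prime] {M : Ideal AlgInt}
  [hMp : M.IsPrime] [CharP (H20.k M) p] [IsAlgClosed (H20.k M)]

theorem memRing_zero : MemLocalRing M (0 : ℂ) :=
  H20.memRing_of_isIntegral isIntegral_zero

theorem memRing_monoidHom {A : Type*} [Group A] [Finite A] (l : A →* ℂˣ) (a : A) :
    MemLocalRing M (l a : ℂ) := by
  refine H20.memRing_of_isIntegral (IsIntegral.of_pow (n := Nat.card A) Nat.card_pos ?_)
  rw [← Units.val_pow_eq_pow_val, ← map_pow, pow_card_eq_one', map_one, Units.val_one]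
  exact isIntegral_one

/-- The centralizer of an element inside the centralizer of its `p`-part. -/
theorem card_centralizer_qPart {u g : G} (hg : H20.pPart p g = u)
    (hq : H20.qPart p g ∈ Subgroup.centralizer ({u} : Set G)) :
    Nat.card (Subgroup.centralizer ({g} : Set G)) =
      Nat.card (Subgroup.centralizer ({(⟨H20.qPart p g, hq⟩ :
        Subgroup.centralizer ({u} : Set G))} : Set (Subgroup.centralizer ({u} : Set G)))) := by
  subst hg
  have hu : ∀ c : G, c * g = g * c → c ∈ Subgroup.centralizer ({H20.pPart p g} : Set G) := fun c hc => by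
    obtain ⟨i, hi⟩ := Subgroup.mem_zpowers_iff.1 (H20.mem_zpowers_pPart (p := p) g)
    rw [Subgroup.mem_centralizer_singleton_iff, ← hi]
    exact (Commute.zpow_right (hc : Commute c g) i).eq
  refine Nat.card_congr
    { toFun := fun c => ⟨⟨(c : G), hu _ (Subgroup.mem_centralizer_singleton_iff.1 c.2)⟩, ?_⟩
      invFun := fun c => ⟨((c : Subgroup.centralizer ({H20.pPart p g} : Set G)) : G), ?_⟩
      left_inv := fun c => rfl
      right_inv := fun c => rfl }
  · rw [Subgroup.mem_centralizer_singleton_iff]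
    apply Subtype.ext
    have h1 : Commute (c : G) g := Subgroup.mem_centralizer_singleton_iff.1 c.2
    have h2 : Commute (c : G) (H20.pPart p g) :=
      Subgroup.mem_centralizer_singleton_iff.1 (hu _ h1.eq)
    have h3 : H20.qPart p g = (H20.pPart p g)⁻¹ * g := by
      rw [eq_inv_mul_iff_mul_eq, H20.pPart_mul_qPart]
    show (c : G) * H20.qPart p g = H20.qPart p g * (c : G)
    rw [h3]
    exact (h2.inv_right.mul_right h1).eq
  · rw [Subgroup.mem_centralizer_singleton_iff]
    have h1 : Commute ((c : Subgroup.centralizer ({H20.pPart p g} : Set G)) : G) (H20.qPart p g) :=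
      congrArg Subtype.val (Subgroup.mem_centralizer_singleton_iff.1 c.2)
    have h2 : Commute ((c : Subgroup.centralizer ({H20.pPart p g} : Set G)) : G) (H20.pPart p g) :=
      Subgroup.mem_centralizer_singleton_iff.1
        (c : Subgroup.centralizer ({H20.pPart p g} : Set G)).2
    have h3 := (h2.mul_right h1).eq
    rwa [H20.pPart_mul_qPart] at h3

/-- The trace on a section of an abelian defect group is divisible by the centralizer. -/
theorem T_div (hM : IsPModular p M) {B : Set (IrrCharacter G)} (hB : IsPBlock M B)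
    {P : Subgroup G} {f₀ : (H20.k M)[G]} (hab : ∀ a ∈ P, ∀ b ∈ P, a * b = b * a)
    (hmax : IsMax p (eB M B) P f₀) {u : G} (hu : u ∈ P) {b : (H20.k M)[G]}
    (hb : Le p (Subgroup.zpowers u, b) (P, f₀)) {g : G} (hg : H20.pPart p g = u)
    (χ : IrrCharacter G) :
    MemLocalRing M (T χ g b) ∧
      MemLocalRing M ((Nat.card P : ℂ) * T χ g b /
        (Nat.card (Subgroup.centralizer ({g} : Set G)) : ℂ)) := by
  classical
  haveI := Fintype.ofFinite (Subgroup.centralizer ({u} : Set G))
  have hj := exists_orderOf_of_mem hmax.1.1 hu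
  obtain ⟨β, hind, hβb, x, -, hx, hge⟩ := exists_section hM hB hmax hj hb
  have hcard := H20.card_defectGroup hM hB (isDefectGroup_of_isMax hB hmax)
  have hd : Nat.card P = p ^ blockDefect p β := by
    refine le_antisymm (le_trans ?_ hge) ?_
    · have hle : P ≤ Subgroup.centralizer (Subgroup.zpowers u : Set G) := fun a ha => by
        rw [centralizer_zpowers, Subgroup.mem_centralizer_singleton_iff]
        exact hab a ha u hu
      rw [inf_eq_left.2 hle]
    · rw [hx]
      exact Subgroup.card_le_of_le inf_le_left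
  obtain ⟨S⟩ := H22.Contrib.exists_setup hM hj hind
  subst hg
  have hq : H20.qPart p g ∈ Subgroup.centralizer ({H20.pPart p g} : Set G) := by
    rw [Subgroup.mem_centralizer_singleton_iff]
    exact (H20.commute_pPart_qPart g).eq.symm
  set s : Subgroup.centralizer ({H20.pPart p g} : Set G) := ⟨H20.qPart p g, hq⟩ with hs
  have hreg : ¬ p ∣ orderOf s := by
    rw [← Subgroup.orderOf_coe]
    exact H20.not_dvd_orderOf_qPart g
  have hT : T χ g b = H22.Contrib.part p (H20.pPart p g) β χ s := by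
    have h := T_eG hj _ (centralizer_zpowers (H20.pPart p g)).symm hind.1 χ s
    have hgs : H20.pPart p g * (s : G) = g := H20.pPart_mul_qPart g
    rw [hgs, hβb] at h
    rw [h, H22.Contrib.part, H22.Sub.regMap_apply, H22.pRegularPart_of_not_dvd _ hreg]
    rfl
  refine ⟨hT ▸ S.memRing_part χ s, ?_⟩
  let c : IrrCharacter (Subgroup.centralizer ({H20.pPart p g} : Set G)) → ℂ := fun η' =>
    ∑ i ∈ Finset.range S.N, S.ζ ^ i *
      ((∑ η ∈ H22.blockFinset β, S.vec χ i η * S.z η η' : ℤ) : ℂ)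
  have hθ : ∀ w, ((p : ℂ) ^ blockDefect p β * H22.Contrib.part p (H20.pPart p g) β χ w) =
      ∑ η' ∈ H22.blockFinset β, c η' * (η' : Subgroup.centralizer ({H20.pPart p g} : Set G) → ℂ) w := by
    intro w
    rw [← S.gpart_one χ]
    simp only [H22.Contrib.Setup.gpart, H22.Contrib.Setup.gmap, Finset.sum_apply, Pi.smul_apply,
      smul_eq_mul, one_mul, c, Finset.mul_sum, Finset.sum_mul]
    rw [Finset.sum_comm (s := H22.blockFinset β) (t := Finset.range S.N)]
    refine Finset.sum_congr rfl fun i _ => ?_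
    push_cast
    simp only [Finset.mul_sum, Finset.sum_mul]
    rw [Finset.sum_comm (s := H22.blockFinset β) (t := H22.blockFinset β)]
    refine Finset.sum_congr rfl fun η hη => ?_
    rw [← H22.sum_Delta_mul (H22.weakOrth_of_block hM hind.1) (H22.mem_blockFinset.1 hη) w,
      Finset.mul_sum, Finset.mul_sum, Finset.mul_sum]
    refine Finset.sum_congr rfl fun η' _ => ?_
    rw [S.hz η (H22.mem_blockFinset.1 hη)]
    ring
  have h := H22.div_cenExp_memRing (M := M) (p := p) hθ
    (fun w hw => by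
      rw [H22.Contrib.part, H22.Sub.regMap_apply, H22.pRegularPart_of_dvd _ hw, mul_zero])
    (fun η' _ => H20.memRing_sum _ _ fun i _ => H20.memRing_mul
      (H20.memRing_of_isIntegral ((S.hζ.isIntegral S.N_pos).pow _)) (H20.memRing_intCast _)) hreg
  have hc : (Nat.card (Subgroup.centralizer ({g} : Set G)) : ℂ) =
      (p : ℂ) ^ H22.cenExp p s * ((Nat.card (Subgroup.centralizer ({s} : Set _)) /
        p ^ (Nat.card (Subgroup.centralizer ({s} : Set _))).factorization p : ℕ) : ℂ) := by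
    rw [card_centralizer_qPart rfl hq, ← hs, H22.cenExp, ← Nat.cast_pow, ← Nat.cast_mul,
      Nat.ordProj_mul_ordCompl_eq_self]
  rw [hc, hT, hd, Nat.cast_pow, ← div_div, div_eq_mul_inv]
  exact H20.memRing_mul h
    (H20.inv_natCast_memRing hM (Nat.not_dvd_ordCompl hp.out Nat.card_pos.ne'))

namespace Loc

variable {B : Set (IrrCharacter G)} {D : Subgroup G} {f0 : (H20.k M)[G]} {z : G}
  {S : Setup p M B D f0 z} [Fintype (Cz z)] (L : Loc p M S)

/-- The label of the fixed character. -/
noncomputable def l₀ : D.subgroupOf (Cz z) →* ℂˣ := (L.exists_ξ_eq L.η₀_mem).choose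

/-- The multiplicity vector in normalised labels. -/
noncomputable def N (χ : IrrCharacter G) (l : D.subgroupOf (Cz z) →* ℂˣ) : ℤ :=
  L.n χ (L.ξ (L.l₀ * l))

/-- The Fourier transform of the multiplicity vector. -/
noncomputable def A [Fintype (D.subgroupOf (Cz z) →* ℂˣ)] (χ : IrrCharacter G)
    (u : D.subgroupOf (Cz z)) : ℂ := ∑ l, (L.N χ l : ℂ) * (l u : ℂ)

include L

theorem ξ_l₀ : L.ξ L.l₀ = L.η₀ := (L.exists_ξ_eq L.η₀_mem).choose_spec

theorem N_one (χ : IrrCharacter G) : L.N χ 1 = 0 := by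
  rw [N, show L.l₀ * 1 = L.l₀ from MonoidHom.ext fun u => by simp, L.ξ_l₀, L.n_η₀]

theorem tw_ξ {t : G} (ht : t ∈ stab D f0) (l : D.subgroupOf (Cz z) →* ℂˣ) :
    tw t (L.ξ (L.l₀ * l)) = L.ξ (L.l₀ * l.comp (S.cD t ht)) := by
  obtain ⟨lt, hlt⟩ := L.exists_shift ht
  have h0 := hlt L.l₀
  rw [L.ξ_l₀, L.tw_η₀ ht, ← L.ξ_l₀, L.ξ_injective.eq_iff] at h0
  rw [hlt]
  congr 1
  refine MonoidHom.ext fun u => ?_
  have h := DFunLike.congr_fun h0 u
  simp only [MonoidHom.mul_apply, MonoidHom.comp_apply] at h ⊢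
  rw [mul_right_comm, h]

theorem N_cD (χ : IrrCharacter G) {t : G} (ht : t ∈ stab D f0)
    (l : D.subgroupOf (Cz z) →* ℂˣ) : L.N χ (l.comp (S.cD t ht)) = L.N χ l := by
  rw [N, N, ← L.tw_ξ ht, L.n_tw χ ht]

theorem T_section' [Fintype (D.subgroupOf (Cz z) →* ℂˣ)] (χ : IrrCharacter G)
    {u : D.subgroupOf (Cz z)} (hu : u ≠ 1) {g : Cz z} (hg : H20.pPart p g = (u : Cz z)) :
    T χ (g : G) (emb (Cz z) (L.bl u)) =
      L.A χ u * ((L.l₀ u : ℂ) * T L.χ₀ g (L.bl u)) := by
  classical
  rw [L.T_section χ hu hg, A, Finset.sum_mul, Finset.mul_sum,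
    ← Equiv.sum_comp (Equiv.mulLeft L.l₀)
      (fun l => T L.χ₀ g (L.bl u) * ((L.n χ (L.ξ l) : ℂ) * (l u : ℂ)))]
  refine Finset.sum_congr rfl fun l _ => ?_
  simp only [Equiv.coe_mulLeft, N, MonoidHom.mul_apply, Units.val_mul]
  ring

theorem card_cent_Cz {g : Cz z} {u : D.subgroupOf (Cz z)} (hu : u ≠ 1)
    (hg : H20.pPart p g = (u : Cz z)) :
    Nat.card (Subgroup.centralizer ({g} : Set (Cz z))) =
      Nat.card (Subgroup.centralizer ({(g : G)} : Set G)) := by
  have hle : ∀ c : G, c ∈ Subgroup.centralizer ({(g : G)} : Set G) → c ∈ Cz z := fun c hc => by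
    refine S.centralizer_zpowers_le (u := ((u : Cz z) : G)) u.2
      (fun h => hu (Subtype.ext (Subtype.ext h))) ?_
    rw [Subgroup.mem_centralizer_singleton_iff] at hc
    rw [centralizer_zpowers, Subgroup.mem_centralizer_singleton_iff, ← hg, ← H20.pPart_coe]
    obtain ⟨i, hi⟩ := Subgroup.mem_zpowers_iff.1 (H20.mem_zpowers_pPart (p := p) (g : G))
    rw [← hi]
    have hc' : Commute c (g : G) := hc
    exact (hc'.zpow_right i).eq
  refine Nat.card_congr
    { toFun := fun c => ⟨((c : Cz z) : G), ?_⟩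
      invFun := fun c => ⟨⟨(c : G), hle _ c.2⟩, ?_⟩
      left_inv := fun c => rfl
      right_inv := fun c => rfl }
  · rw [Subgroup.mem_centralizer_singleton_iff]
    exact congrArg Subtype.val (Subgroup.mem_centralizer_singleton_iff.1 c.2)
  · rw [Subgroup.mem_centralizer_singleton_iff]
    exact Subtype.ext (Subgroup.mem_centralizer_singleton_iff.1 c.2)

/-- The values at a singular element. -/
theorem expand [Fintype (D.subgroupOf (Cz z) →* ℂˣ)] [Fintype (D.subgroupOf (Cz z))] {g : G}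
    (hg : p ∣ orderOf g) :
    ∃ v : D.subgroupOf (Cz z) → ℂ, (∀ χ ∈ B, (χ : G → ℂ) g = ∑ u, L.A χ u * v u) ∧
      ∀ u, MemLocalRing M (v u) ∧ MemLocalRing M ((Nat.card D : ℂ) * v u /
        (Nat.card (Subgroup.centralizer ({g} : Set G)) : ℂ)) := by
  classical
  set w := H20.pPart p g with hw
  have hw1 : w ≠ 1 := fun h => H20.pPart_eq_one_iff.1 h hg
  set C : ℂ := (Nat.card (Subgroup.centralizer ({g} : Set G)) : ℂ) with hC
  have hdata : ∀ c : (H20.k M)[G], ∃ d : D.subgroupOf (Cz z) × ℂ,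
      c ∈ Bls M w → (MemLocalRing M d.2 ∧ MemLocalRing M ((Nat.card D : ℂ) * d.2 / C) ∧
        ∀ χ ∈ B, T χ g c = L.A χ d.1 * d.2) := by
    intro c
    by_cases hc : c ∈ Bls M w
    swap
    · exact ⟨(1, 0), fun h => absurd h hc⟩
    by_cases hin : InBlk (eB M B) (Subgroup.zpowers w) c
    · obtain ⟨x, hx⟩ := exists_below S.hB S.hmax (H20.exists_orderOf_pPart g) hc hin
      have hle := le_pull hx
      set u₁ := x⁻¹ * w * x with hu₁
      have hu₁D : u₁ ∈ D := mem_of_le hle
      have hu₁1 : u₁ ≠ 1 := fun h => hw1 (by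
        have := congrArg (fun a => x * a * x⁻¹) h
        simpa [hu₁, mul_assoc] using this)
      set u : D.subgroupOf (Cz z) := ⟨⟨u₁, S.le_cent hu₁D⟩, hu₁D⟩ with hu
      have hu1 : u ≠ 1 := fun h => hu₁1 (congrArg (fun a : D.subgroupOf (Cz z) =>
        ((a : Cz z) : G)) h)
      have hbl : emb (Cz z) (L.bl u) = cj x⁻¹ c :=
        le_unique p S.hmax.1 (L.emb_bl_le hu1) hle
      have hpg : H20.pPart p (x⁻¹ * g * x) = u₁ := by
        rw [show x⁻¹ * g * x = x⁻¹ * g * (x⁻¹)⁻¹ by rw [inv_inv], H20.pPart_conj, inv_inv]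
      have hgK : x⁻¹ * g * x ∈ Cz z := by
        refine S.centralizer_zpowers_le hu₁D hu₁1 ?_
        have := mem_centralizer_pPart (p := p) (x⁻¹ * g * x)
        rwa [hpg] at this
      set g₁ : Cz z := ⟨x⁻¹ * g * x, hgK⟩ with hg₁
      have hpg₁ : H20.pPart p g₁ = (u : Cz z) := Subtype.ext (by rw [← H20.pPart_coe]; exact hpg)
      have hcard : C = (Nat.card (Subgroup.centralizer ({g₁} : Set (Cz z))) : ℂ) := by
        rw [hC, L.card_cent_Cz hu1 hpg₁]
        show _ = (Nat.card (Subgroup.centralizer ({x⁻¹ * g * x} : Set G)) : ℂ)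
        rw [show x⁻¹ * g * x = x⁻¹ * g * (x⁻¹)⁻¹ by rw [inv_inv], H20.card_centralizer_conj]
      obtain ⟨h1, h2⟩ := T_div S.hM L.isBlock (fun a ha b hb => Subtype.ext (S.comm ha hb))
        L.hmax u.2 (L.bl_le u) hpg₁ L.χ₀
      rw [Nat.card_congr (Subgroup.subgroupOfEquivOfLe S.le_cent).toEquiv, ← hcard] at h2
      refine ⟨(u, (L.l₀ u : ℂ) * T L.χ₀ g₁ (L.bl u)), fun _ =>
        ⟨H20.memRing_mul (memRing_monoidHom _ _) h1, ?_, fun χ _ => ?_⟩⟩
      · rw [mul_left_comm, mul_div_assoc]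
        exact H20.memRing_mul (memRing_monoidHom _ _) h2
      · rw [← L.T_section' χ hu1 hpg₁, hbl, ← T_cj χ x⁻¹ (isId_of_mem_Bls hc)]
        simp [hg₁]
    · exact ⟨(1, 0), fun _ => ⟨memRing_zero, by rw [mul_zero, zero_div]; exact memRing_zero,
        fun χ hχ => by rw [mul_zero, T_eq_zero_of_not_inBlk S.hM S.hB hχ hc hin]⟩⟩
  choose d hd using hdata
  refine ⟨fun u => ∑ c ∈ Bls M w, if (d c).1 = u then (d c).2 else 0, fun χ hχ => ?_, fun u => ?_⟩
  · have horth : ∀ a ∈ Bls M w, ∀ b ∈ Bls M w, a ≠ b → a * b = 0 := fun a ha b hb hne =>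
      by_contra fun h => hne ((mem_Bls.1 ha).eq_of_mul_ne_zero (mem_Bls.1 hb) h)
    rw [← T_one (M := M) χ g, ← sum_Bls w, T_sum χ _ _ (fun b hb => isId_of_mem_Bls hb) horth]
    simp only [Finset.mul_sum, mul_ite, mul_zero]
    rw [Finset.sum_comm]
    refine Finset.sum_congr rfl fun c hc => ?_
    rw [Finset.sum_ite_eq, if_pos (Finset.mem_univ _), (hd c hc).2.2 χ hχ]
  · refine ⟨H20.memRing_sum _ _ fun c hc => ?_, ?_⟩
    · split_ifs
      · exact (hd c hc).1
      · exact memRing_zero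
    · rw [Finset.mul_sum, Finset.sum_div]
      refine H20.memRing_sum _ _ fun c hc => ?_
      split_ifs
      · exact (hd c hc).2.1
      · rw [mul_zero, zero_div]; exact memRing_zero

end Loc

end H23.Cyc
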