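import Cfsg.Agent.H23.Cyc.Shape
import Cfsg.Agent.H23.Cyc.Values
import Cfsg.Agent.H23.Cyc.Match
import Mathlib.RingTheory.ZMod.UnitsCyclic

/-!
# Perfect isometries between blocks with cyclic defect groups

Two blocks with cyclic defect groups of the same order and the same inertial index are perfectly
isometric, the signs being constant on the exceptional characters.
-/

set_option autoImplicit false
set_option linter.style.haveILetI false
set_option linter.unusedSectionVars false
set_option maxHeartbeats 400000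

open Cfsg
open scoped MonoidAlgebra ComplexConjugate

namespace H23.Cyc

universe u v

variable {p : ℕ} [hp : Fact p.Prime] {M : Ideal AlgInt} [hMp : M.IsPrime] [CharP (H20.k M) p]
  [IsAlgClosed (H20.k M)]

/-- In a cyclic `p`-group, automorphism groups of the same order dividing `p - 1` coincide. -/
theorem aut_eq_of_card {C : Type*} [Group C] [Finite C] (hcyc : IsCyclic C) {n : ℕ}
    (hC : Nat.card C = p ^ n) {H H' : Subgroup (MulAut C)} (hd : Nat.card H ∣ p - 1)
    (h : Nat.card H = Nat.card H') : H = H' := by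
  rcases eq_or_ne p 2 with rfl | hp2
  · have h1 : Nat.card H = 1 := Nat.dvd_one.1 (by simpa using hd)
    rw [Subgroup.card_eq_one.1 h1, Subgroup.card_eq_one.1 (h.symm.trans h1)]
  · haveI := hcyc
    haveI : IsCyclic (ZMod (Nat.card C))ˣ := hC ▸ ZMod.isCyclic_units_of_prime_pow p hp.out hp2 n
    haveI : Finite (MulAut C) := inferInstance
    haveI hA : IsCyclic (MulAut C) := isCyclic_of_surjective
      (IsCyclic.mulAutMulEquiv C).symm.toMonoidHom (IsCyclic.mulAutMulEquiv C).symm.surjective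
    exact H19.CyclicLocal.eq_of_card_eq (P := (⊤ : Subgroup (MulAut C)))
      (isCyclic_of_surjective Subgroup.topEquiv.symm.toMonoidHom Subgroup.topEquiv.symm.surjective)
      le_top le_top h

variable {G : Type u} [Group G] [Fintype G] {B : Set (IrrCharacter G)} {D : Subgroup G}
  {f0 : (H20.k M)[G]} {z : G}

namespace Setup

variable (S : Setup p M B D f0 z)
include S

/-- The action of the inertial group on `D`. -/
noncomputable def autD : stab D f0 →* MulAut (D.subgroupOf (Cz z)) where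
  toFun t :=
    { toFun := S.cD t t.2
      invFun := S.cD (t : G)⁻¹ (inv_mem t.2)
      left_inv := fun u => Subtype.ext (Subtype.ext (by simp [S.coe_cD, mul_assoc]))
      right_inv := fun u => Subtype.ext (Subtype.ext (by simp [S.coe_cD, mul_assoc]))
      map_mul' := map_mul _ }
  map_one' := MulEquiv.ext fun u => Subtype.ext (Subtype.ext (by simp [S.coe_cD]))
  map_mul' s t := MulEquiv.ext fun u => Subtype.ext (Subtype.ext (by
    simp [S.coe_cD, MulAut.mul_apply, mul_assoc]))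

theorem autD_apply (t : stab D f0) (u : D.subgroupOf (Cz z)) :
    S.autD t u = S.cD t t.2 u := rfl

theorem card_range_autD : Nat.card S.autD.range =
    (Subgroup.centralizer (D : Set G)).relIndex (stab D f0) := by
  have hker : S.autD.ker = (Subgroup.centralizer (D : Set G)).subgroupOf (stab D f0) := by
    ext t
    rw [MonoidHom.mem_ker, Subgroup.mem_subgroupOf, Subgroup.mem_centralizer_iff]
    constructor
    · intro h d hd
      have h1 := congrArg (fun w : D.subgroupOf (Cz z) => ((w : Cz z) : G))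
        (MulEquiv.congr_fun h ⟨⟨d, S.le_cent hd⟩, hd⟩)
      simp only [S.autD_apply, S.coe_cD, MulAut.one_apply] at h1
      exact (mul_inv_eq_iff_eq_mul.1 h1).symm
    · intro h
      refine MulEquiv.ext fun u => Subtype.ext (Subtype.ext ?_)
      rw [S.autD_apply, S.coe_cD, MulAut.one_apply, mul_inv_eq_iff_eq_mul]
      exact (h _ u.2).symm
  rw [← Subgroup.index_ker, hker]
  rfl

theorem card_DK : Nat.card (D.subgroupOf (Cz z)) = Nat.card D :=
  Nat.card_congr (Subgroup.subgroupOfEquivOfLe S.le_cent).toEquiv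

theorem isCyclic_DK : IsCyclic (D.subgroupOf (Cz z)) := by
  haveI := S.cyc
  exact isCyclic_of_surjective (Subgroup.subgroupOfEquivOfLe S.le_cent).symm.toMonoidHom
    (Subgroup.subgroupOfEquivOfLe S.le_cent).symm.surjective

variable {G' : Type v} [Group G'] [Fintype G'] {B' : Set (IrrCharacter G')} {D' : Subgroup G'}
  {f0' : (H20.k M)[G']} {z' : G'} (S' : Setup p M B' D' f0' z')

/-- An isomorphism of the defect groups carries one inertial action to the other. -/
theorem exists_transport (hcard : Nat.card D = Nat.card D')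
    (he : (Subgroup.centralizer (D : Set G)).relIndex (stab D f0) =
      (Subgroup.centralizer (D' : Set G')).relIndex (stab D' f0')) :
    ∃ φ : D.subgroupOf (Cz z) ≃* D'.subgroupOf (Cz z'), ∀ (t' : G') (ht' : t' ∈ stab D' f0'),
      ∃ (t : G) (ht : t ∈ stab D f0), ∀ u, φ (S.cD t ht u) = S'.cD t' ht' (φ u) := by
  haveI := S.isCyclic_DK
  haveI := S'.isCyclic_DK
  let φ : D.subgroupOf (Cz z) ≃* D'.subgroupOf (Cz z') :=
    mulEquivOfCyclicCardEq (by rw [S.card_DK, S'.card_DK, hcard])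
  obtain ⟨n, hn⟩ := IsPGroup.iff_card.1 S'.hmax.1.1
  have heq : S.autD.range.map (MulAut.congr φ).toMonoidHom = S'.autD.range := by
    refine aut_eq_of_card (p := p) S'.isCyclic_DK (n := n) (by rw [S'.card_DK, hn]) ?_ ?_
    · rw [Nat.card_congr (Subgroup.equivMapOfInjective _ _ (MulAut.congr φ).injective).toEquiv.symm,
        S.card_range_autD]
      exact S.relIndex_dvd
    · rw [Nat.card_congr (Subgroup.equivMapOfInjective _ _ (MulAut.congr φ).injective).toEquiv.symm,
        S.card_range_autD, S'.card_range_autD, he]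
  refine ⟨φ, fun t' ht' => ?_⟩
  obtain ⟨a, ⟨t, rfl⟩, ha⟩ := (heq.symm ▸ ⟨⟨t', ht'⟩, rfl⟩ :
    S'.autD ⟨t', ht'⟩ ∈ S.autD.range.map (MulAut.congr φ).toMonoidHom)
  refine ⟨t, t.2, fun u => ?_⟩
  have h := MulEquiv.congr_fun ha (φ u)
  simp only [MulEquiv.coe_toMonoidHom, MulAut.congr_apply, MulEquiv.trans_apply,
    MulEquiv.symm_apply_apply, S.autD_apply, S'.autD_apply] at h
  exact h

end Setup

namespace Loc

variable {S : Setup p M B D f0 z} [Fintype (Cz z)] (L : Loc p M S)
include L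

theorem card_labels : Nat.card (D.subgroupOf (Cz z) →* ℂˣ) = Nat.card D := by
  rw [← L.card_bK]
  exact Nat.card_congr (Equiv.ofBijective (fun l => (⟨L.ξ l, L.ξ_mem l⟩ : L.bK))
    ⟨fun a b h => L.ξ_injective (congrArg Subtype.val h), fun η => by
      obtain ⟨l, hl⟩ := L.exists_ξ_eq η.2
      exact ⟨l, Subtype.ext hl⟩⟩)

/-- The Gram matrix in the normalised labels. -/
theorem gram_N [DecidableEq G] [DecidableEq (D.subgroupOf (Cz z) →* ℂˣ)] {R : Finset G}
    (hR : ∀ r ∈ R, r ∈ stab D f0)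
    (hR1 : ∀ t ∈ stab D f0, ∃ r ∈ R, r⁻¹ * t ∈ Subgroup.centralizer (D : Set G))
    (hR2 : ∀ r ∈ R, ∀ r' ∈ R, r⁻¹ * r' ∈ Subgroup.centralizer (D : Set G) → r = r')
    (l m : D.subgroupOf (Cz z) →* ℂˣ) :
    ∑ χ : IrrCharacter G, (L.N χ l : ℂ) * (L.N χ m : ℂ) = ∑ r ∈ R.attach,
      ((if m.comp (S.cD r.1 (hR _ r.2)) = l then 1 else 0) - (if m = 1 then 1 else 0) -
        (if l = 1 then 1 else 0) + 1) := by
  classical
  have hone : ∀ (r : R) (k : D.subgroupOf (Cz z) →* ℂˣ),
      k.comp (S.cD r.1 (hR _ r.2)) = 1 ↔ k = 1 := by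
    intro r k
    refine ⟨fun h => MonoidHom.ext fun u => ?_, fun h => by rw [h, MonoidHom.one_comp]⟩
    have h1 := DFunLike.congr_fun h ((S.autD ⟨r.1, hR _ r.2⟩).symm u)
    rw [MonoidHom.comp_apply, ← S.autD_apply ⟨r.1, hR _ r.2⟩, MulEquiv.apply_symm_apply] at h1
    exact h1
  by_cases hl : l = 1
  · subst hl
    simp only [L.N_one, Int.cast_zero, zero_mul, Finset.sum_const_zero, hone, if_true]
    exact (Finset.sum_eq_zero fun r _ => by split_ifs <;> ring).symm
  by_cases hm : m = 1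
  · subst hm
    simp only [L.N_one, Int.cast_zero, mul_zero, Finset.sum_const_zero, MonoidHom.one_comp,
      if_neg (Ne.symm hl), if_neg hl, if_true]
    exact (Finset.sum_eq_zero fun r _ => by ring).symm
  have hne : ∀ k : D.subgroupOf (Cz z) →* ℂˣ, k ≠ 1 → L.ξ (L.l₀ * k) ≠ L.η₀ := fun k hk h =>
    hk (MonoidHom.ext fun u => by
      rw [← L.ξ_l₀, L.ξ_injective.eq_iff] at h
      have h1 := DFunLike.congr_fun h u
      rw [MonoidHom.mul_apply] at h1
      exact mul_left_cancel (h1.trans (mul_one _).symm))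
  have h := L.gram hR hR1 hR2 (L.ξ_mem (L.l₀ * l)) (L.ξ_mem (L.l₀ * m)) (hne l hl) (hne m hm)
  have h' := congrArg (Int.cast : ℤ → ℂ) h
  push_cast at h'
  rw [show ∑ χ : IrrCharacter G, (L.N χ l : ℂ) * (L.N χ m : ℂ) = _ from h']
  simp only [if_neg hl, if_neg hm, sub_zero, Finset.sum_add_distrib, Finset.sum_const,
    Finset.card_attach, nsmul_eq_mul, mul_one]
  rw [add_comm, Finset.natCast_card_filter, ← Finset.sum_attach]
  congr 1
  refine Finset.sum_congr rfl fun r _ => if_congr ?_ rfl rfl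
  rw [L.tw_ξ (hR _ r.2), L.ξ_injective.eq_iff]
  refine ⟨fun h => MonoidHom.ext fun u => ?_, fun h => by rw [h]⟩
  have h1 := DFunLike.congr_fun h u
  simp only [MonoidHom.mul_apply] at h1
  exact mul_left_cancel h1

/-- The columns `u ↦ A χ u` of a block with cyclic defect group. -/
theorem colData [Fintype (D.subgroupOf (Cz z) →* ℂˣ)] [Fintype (D.subgroupOf (Cz z))] :
    ColData p M B (Nat.card D) (fun u χ => L.A χ u) := by
  classical
  refine ⟨fun u w => ?_, fun u y hy => ?_, fun g hg => L.expand hg⟩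
  · obtain ⟨R, hR, hR1, hR2, -⟩ := S.exists_reps
    refine ⟨∑ r ∈ R.attach, ((if S.cD r.1 (hR _ r.2) u * w = 1 then 1 else 0) -
      (if u = 1 then 1 else 0) - (if w = 1 then 1 else 0) +
        (Nat.card D : ℂ) * ((if u = 1 then 1 else 0) * if w = 1 then 1 else 0)), ?_, ?_⟩
    · refine H20.memRing_sum _ _ fun r _ => H20.mem_O.1 ?_
      refine add_mem (sub_mem (sub_mem ?_ ?_) ?_) (mul_mem (natCast_mem _ _) (mul_mem ?_ ?_)) <;>
        (split_ifs <;> first | exact one_mem _ | exact zero_mem _)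
    · letI : CommGroup (D.subgroupOf (Cz z)) :=
        { (inferInstance : Group (D.subgroupOf (Cz z))) with
          mul_comm := fun a b => Subtype.ext (Subtype.ext (S.comm a.2 b.2)) }
      have hsum : ∀ a : D.subgroupOf (Cz z), ∑ l : D.subgroupOf (Cz z) →* ℂˣ, (l a : ℂ) =
          if a = 1 then (Nat.card D : ℂ) else 0 := by
        intro a
        split_ifs with ha
        · subst ha
          simp only [map_one, Units.val_one, Finset.sum_const, Finset.card_univ, nsmul_one]
          rw [← L.card_labels, Nat.card_eq_fintype_card]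
        · obtain ⟨m, hm⟩ := CommGroup.exists_apply_ne_one_of_hasEnoughRootsOfUnity
            (D.subgroupOf (Cz z)) ℂ ha
          have h := Fintype.sum_equiv (Equiv.mulLeft m) (fun l => ((m * l) a : ℂ))
            (fun l => (l a : ℂ)) fun l => rfl
          simp only [MonoidHom.mul_apply, Units.val_mul, ← Finset.mul_sum] at h
          rw [← sub_eq_zero, ← sub_one_mul, mul_eq_zero, sub_eq_zero] at h
          exact h.resolve_left fun h1 => hm (Units.ext h1)
      calc ∑ χ ∈ H22.blockFinset B, L.A χ u * L.A χ w = ∑ χ, L.A χ u * L.A χ w :=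
            Finset.sum_subset (Finset.subset_univ _) fun χ _ hχ => by
              simp [A, N, L.n_eq_zero (fun h => hχ (H22.mem_blockFinset.2 h)) (L.ξ_mem _)]
        _ = ∑ l, ∑ m, (l u : ℂ) * (m w : ℂ) * ∑ χ, (L.N χ l : ℂ) * (L.N χ m : ℂ) := by
            simp only [A]
            simp only [Finset.sum_mul_sum]
            simp only [Finset.mul_sum]
            rw [Finset.sum_comm]
            refine Finset.sum_congr rfl fun l _ => ?_
            rw [Finset.sum_comm]
            exact Finset.sum_congr rfl fun m _ => Finset.sum_congr rfl fun χ _ => by ring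
        _ = ∑ r ∈ R.attach, ∑ l : D.subgroupOf (Cz z) →* ℂˣ,
              ∑ m : D.subgroupOf (Cz z) →* ℂˣ,
              ((if m.comp (S.cD r.1 (hR _ r.2)) = l then (l u : ℂ) * (m w : ℂ) else 0) -
                (if m = 1 then (l u : ℂ) * (m w : ℂ) else 0) -
                (if l = 1 then (l u : ℂ) * (m w : ℂ) else 0) + (l u : ℂ) * (m w : ℂ)) := by
            simp only [L.gram_N hR hR1 hR2, Finset.mul_sum]
            refine Eq.trans ?_ Finset.sum_comm.symm
            refine Finset.sum_congr rfl fun l _ => ?_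
            refine Eq.trans ?_ Finset.sum_comm.symm
            refine Finset.sum_congr rfl fun m _ => Finset.sum_congr rfl fun r _ => ?_
            simp only [mul_add, mul_sub, mul_ite, mul_one, mul_zero]
        _ = _ := by
            rw [Finset.mul_sum]
            refine Finset.sum_congr rfl fun r _ => ?_
            simp only [Finset.sum_add_distrib, Finset.sum_sub_distrib]
            have h1 : ∑ l : D.subgroupOf (Cz z) →* ℂˣ, ∑ m : D.subgroupOf (Cz z) →* ℂˣ,
                (if m.comp (S.cD r.1 (hR _ r.2)) = l then (l u : ℂ) * (m w : ℂ) else 0) =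
                if S.cD r.1 (hR _ r.2) u * w = 1 then (Nat.card D : ℂ) else 0 := by
              rw [Finset.sum_comm, ← hsum]
              refine Finset.sum_congr rfl fun m _ => ?_
              rw [Finset.sum_ite_eq, if_pos (Finset.mem_univ _), map_mul, Units.val_mul]
              rfl
            rw [h1]
            simp only [Finset.sum_ite_eq', Finset.mem_univ, if_true, Finset.sum_ite_irrel,
              Finset.sum_const_zero, MonoidHom.one_apply, Units.val_one, one_mul, mul_one,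
              ← Finset.mul_sum, ← Finset.sum_mul, hsum]
            split_ifs <;> ring
  · have h : ∀ χ : IrrCharacter G, L.A χ u * (χ : G → ℂ) y =
        ∑ l, (l u : ℂ) * ((L.n χ (L.ξ (L.l₀ * l)) : ℂ) * (χ : G → ℂ) y) := fun χ => by
      simp only [A, N, Finset.sum_mul]
      exact Finset.sum_congr rfl fun l _ => by ring
    rw [Finset.sum_subset (Finset.subset_univ _) fun χ _ hχ => by
      simp [A, N, L.n_eq_zero (fun h => hχ (H22.mem_blockFinset.2 h)) (L.ξ_mem _)]]
    simp only [h]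
    rw [Finset.sum_comm]
    exact Finset.sum_eq_zero fun l _ => by
      rw [← Finset.mul_sum, L.sum_n_mul_reg (L.ξ_mem _) hy, mul_zero]

theorem ξ_mul_ne {l : D.subgroupOf (Cz z) →* ℂˣ} (hl : l ≠ 1) : L.ξ (L.l₀ * l) ≠ L.η₀ := by
  intro h
  rw [← L.ξ_l₀, L.ξ_injective.eq_iff] at h
  refine hl (MonoidHom.ext fun u => ?_)
  have h1 := DFunLike.congr_fun h u
  rw [MonoidHom.mul_apply] at h1
  exact mul_left_cancel (h1.trans (mul_one _).symm)

theorem exists_rep_label {ι : Type u} (Sh : Shape L ι) (i : ι) :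
    ∃ l : D.subgroupOf (Cz z) →* ℂˣ, l ≠ 1 ∧ L.ξ (L.l₀ * l) = Sh.rep i := by
  obtain ⟨l, hl⟩ := L.exists_ξ_eq (Sh.rep_mem i)
  have h : L.l₀ * (L.l₀⁻¹ * l) = l := MonoidHom.ext fun u => by
    simp [← mul_assoc]
  refine ⟨L.l₀⁻¹ * l, fun h1 => Sh.rep_ne i ?_, by rw [h, hl]⟩
  rw [h1, show L.l₀ * 1 = L.l₀ from MonoidHom.ext fun u => by simp] at h
  rw [← hl, ← h, L.ξ_l₀]

/-- A label lies in one orbit. -/
theorem exists_index {ι : Type u} (Sh : Shape L ι) {l : D.subgroupOf (Cz z) →* ℂˣ} (hl : l ≠ 1) :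
    ∃ i, ∃ t ∈ stab D f0, tw t (Sh.rep i) = L.ξ (L.l₀ * l) :=
  Sh.rep_cover _ (L.ξ_mem _) (L.ξ_mul_ne hl)

end Loc

variable {G' : Type v} [Group G'] [Fintype G'] {B' : Set (IrrCharacter G')} {D' : Subgroup G'}
  {f0' : (H20.k M)[G']} {z' : G'}

/-- Blocks with cyclic defect groups of the same order and the same inertial index are perfectly
isometric; the exceptional characters carry one sign. -/
theorem exists_isometry {S : Setup p M B D f0 z} [Fintype (Cz z)] {L : Loc p M S} {ι : Type u}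
    (Sh : Shape L ι) {S' : Setup p M B' D' f0' z'} [Fintype (Cz z')] {L' : Loc p M S'}
    {ι' : Type v} (Sh' : Shape L' ι') (hcard : Nat.card D = Nat.card D')
    (he : (Subgroup.centralizer (D : Set G)).relIndex (stab D f0) =
      (Subgroup.centralizer (D' : Set G')).relIndex (stab D' f0')) :
    ∃ (I : IrrCharacter G' → IrrCharacter G) (ε : IrrCharacter G' → ℤ),
      IsPerfectIsometry p M B' B I ε ∧ (∀ i j, ε (Sh'.Y i) = ε (Sh'.Y j)) ∧
      ∀ χ ∈ Sh'.X, I χ ∈ Sh.X ∧
        ∀ i, ε χ * ε (Sh'.Y i) = (Sh'.b χ * Sh'.δ) * (Sh.b (I χ) * Sh.δ) := by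
  classical
  haveI := L.finite_labels
  haveI := L'.finite_labels
  haveI : Fintype (D.subgroupOf (Cz z) →* ℂˣ) := Fintype.ofFinite _
  haveI : Fintype (D'.subgroupOf (Cz z') →* ℂˣ) := Fintype.ofFinite _
  haveI : Fintype (D.subgroupOf (Cz z)) := Fintype.ofFinite _
  haveI : Fintype (D'.subgroupOf (Cz z')) := Fintype.ofFinite _
  haveI : Finite ι := Finite.of_injective Sh.Y Sh.Y_inj
  haveI : Finite ι' := Finite.of_injective Sh'.Y Sh'.Y_inj
  obtain ⟨φ, hφ⟩ := S.exists_transport S' hcard he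
  -- the transport of labels
  let P : (D'.subgroupOf (Cz z') →* ℂˣ) → (D.subgroupOf (Cz z) →* ℂˣ) :=
    fun l => l.comp φ.toMonoidHom
  have hP1 : ∀ l, l ≠ 1 → P l ≠ 1 := fun l hl h => hl (MonoidHom.ext fun u => by
    simpa [P] using DFunLike.congr_fun h (φ.symm u))
  have hPinj : Function.Injective P := fun l m h => MonoidHom.ext fun u => by
    simpa [P] using DFunLike.congr_fun h (φ.symm u)
  have hPc : ∀ (t' : G') (ht' : t' ∈ stab D' f0'), ∃ (t : G) (ht : t ∈ stab D f0),
      ∀ l, P (l.comp (S'.cD t' ht')) = (P l).comp (S.cD t ht) := by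
    intro t' ht'
    obtain ⟨t, ht, h⟩ := hφ t' ht'
    exact ⟨t, ht, fun l => MonoidHom.ext fun u => by simp [P, h u]⟩
  choose rl hrl1 hrl using L'.exists_rep_label Sh'
  -- the transported orbit
  have hf : ∀ i', ∃ i, ∃ t ∈ stab D f0, tw t (Sh.rep i) = L.ξ (L.l₀ * P (rl i')) :=
    fun i' => L.exists_index Sh (hP1 _ (hrl1 i'))
  choose f τ hτ hfτ using hf
  have hPlift : ∀ i', ∀ t (ht : t ∈ stab D f0), ∃ t' ∈ stab D' f0',
      ∀ ht', (P (rl i')).comp (S.cD t ht) = P ((rl i').comp (S'.cD t' ht')) := by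
    intro i' t ht
    let g : stab D' f0' → MulAut (D.subgroupOf (Cz z)) := fun t' =>
      φ.trans ((S'.autD t').trans φ.symm)
    have hsub : Set.range g ⊆ S.autD.range := by
      rintro _ ⟨t', rfl⟩
      obtain ⟨t₁, ht₁, h⟩ := hφ t'.1 t'.2
      refine ⟨⟨t₁, ht₁⟩, MulEquiv.ext fun u => φ.injective ?_⟩
      simp [g, S.autD_apply, h u, S'.autD_apply]
    have hrange : Set.range g = S.autD.range := by
      refine Set.eq_of_subset_of_ncard_le hsub ?_ (Set.toFinite _)
      have h1 : Set.range g = (fun a : MulAut (D'.subgroupOf (Cz z')) =>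
          φ.trans (a.trans φ.symm)) '' S'.autD.range := by
        rw [MonoidHom.coe_range, ← Set.range_comp]
        rfl
      rw [h1, Set.ncard_image_of_injective _ fun a b hab => MulEquiv.ext fun u => by
        simpa using congrArg φ (MulEquiv.congr_fun hab (φ.symm u))]
      rw [← Nat.card_coe_set_eq, ← Nat.card_coe_set_eq]
      exact (S.card_range_autD.trans (he.trans S'.card_range_autD.symm)).le
    obtain ⟨t', ht'⟩ : S.autD ⟨t, ht⟩ ∈ Set.range g := hrange.symm ▸ ⟨_, rfl⟩
    refine ⟨t', t'.2, fun _ => MonoidHom.ext fun u => ?_⟩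
    have h := congrArg φ (MulEquiv.congr_fun ht' u)
    simp only [g, MulEquiv.trans_apply, MulEquiv.apply_symm_apply, S.autD_apply,
      S'.autD_apply] at h
    simp [P, ← h]
  have hfinj : Function.Injective f := by
    intro i j hij
    have h1 := hfτ i
    have h2 := hfτ j
    rw [← hij] at h2
    have ht := mul_mem (inv_mem (hτ i)) (hτ j)
    have h3 : tw ((τ i)⁻¹ * τ j) (L.ξ (L.l₀ * P (rl i))) = L.ξ (L.l₀ * P (rl j)) := by
      rw [← h1, ← tw_mul (S.stab_le_Nz (hτ i)) (S.stab_le_Nz ht), mul_inv_cancel_left, h2]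
    rw [L.tw_ξ ht, L.ξ_injective.eq_iff] at h3
    obtain ⟨t', ht', h4⟩ := hPlift i _ ht
    have h5 : P ((rl i).comp (S'.cD t' ht')) = P (rl j) := by
      rw [← h4 ht']
      refine MonoidHom.ext fun u => ?_
      have := DFunLike.congr_fun h3 u
      simp only [MonoidHom.mul_apply] at this
      exact mul_left_cancel this
    refine Sh'.rep_inj i j t' ht' ?_
    rw [← hrl i, ← hrl j, L'.tw_ξ ht', hPinj h5]
  have hιcard : Nat.card ι' = Nat.card ι := by
    have h1 := Sh.card_ι
    have h2 := Sh'.card_ι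
    rw [← he, ← hcard] at h2
    exact Nat.eq_of_mul_eq_mul_right
      (Nat.pos_of_ne_zero (Subgroup.FiniteIndex.index_ne_zero :
        ((Subgroup.centralizer (D : Set G)).subgroupOf (stab D f0)).index ≠ 0))
      (Nat.add_right_cancel (h2.trans h1.symm))
  have hfbij : Function.Bijective f := hfinj.bijective_of_nat_card_le hιcard.ge
  have eX : Sh'.X ≃ Sh.X := Finset.equivOfCardEq (by rw [Sh'.card_X, Sh.card_X, he])
  obtain ⟨i₀⟩ : Nonempty ι := by
    rcases isEmpty_or_nonempty ι with h | h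
    · exfalso
      have h1 := Sh.card_ι
      rw [Nat.card_eq_zero.2 (Or.inl h), zero_mul, zero_add] at h1
      haveI : Nontrivial D := (Subgroup.nontrivial_iff_ne_bot D).2 S.bot_lt
      exact absurd h1 (Finite.one_lt_card (α := D)).ne
    · exact h
  let I : IrrCharacter G' → IrrCharacter G := fun χ =>
    if h : χ ∈ Sh'.X then (eX ⟨χ, h⟩ : IrrCharacter G)
    else if h' : ∃ i, Sh'.Y i = χ then Sh.Y (f h'.choose) else Sh.Y i₀
  let ε : IrrCharacter G' → ℤ := fun χ =>
    if χ ∈ Sh'.X then Sh'.b χ * Sh.b (I χ) else Sh'.δ * Sh.δ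
  have hIX : ∀ χ (h : χ ∈ Sh'.X), I χ = eX ⟨χ, h⟩ := fun χ h => dif_pos h
  have hIY : ∀ i, I (Sh'.Y i) = Sh.Y (f i) := fun i => by
    have h' : ∃ j, Sh'.Y j = Sh'.Y i := ⟨i, rfl⟩
    simp only [I, dif_neg (Sh'.Y_notMem i), dif_pos h']
    rw [Sh'.Y_inj h'.choose_spec]
  have hεX : ∀ χ, χ ∈ Sh'.X → ε χ = Sh'.b χ * Sh.b (I χ) := fun χ h => if_pos h
  have hεY : ∀ i, ε (Sh'.Y i) = Sh'.δ * Sh.δ := fun i => if_neg (Sh'.Y_notMem i)
  have hbX : ∀ χ (h : χ ∈ Sh'.X), I χ ∈ Sh.X := fun χ h => by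
    rw [hIX χ h]; exact (eX ⟨χ, h⟩).2
  have hδ2 : Sh.δ * Sh.δ = 1 := by rcases Sh.hδ with h | h <;> rw [h] <;> norm_num
  have hbij : Set.BijOn I B' B := by
    refine ⟨fun χ hχ => ?_, fun χ hχ ψ hψ h => ?_, fun χ hχ => ?_⟩
    · rcases (Sh'.mem_iff χ).1 hχ with h | ⟨i, rfl⟩
      · exact (Sh.mem_iff _).2 (Or.inl (hbX χ h))
      · exact (Sh.mem_iff _).2 (Or.inr ⟨f i, (hIY i).symm⟩)
    · rcases (Sh'.mem_iff χ).1 hχ with h1 | ⟨i, rfl⟩ <;>
        rcases (Sh'.mem_iff ψ).1 hψ with h2 | ⟨j, rfl⟩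
      · rw [hIX χ h1, hIX ψ h2] at h
        exact congrArg Subtype.val (eX.injective (Subtype.ext h))
      · exact absurd (hIY j ▸ h ▸ hbX χ h1) (Sh.Y_notMem _)
      · exact absurd (hIY i ▸ h.symm ▸ hbX ψ h2) (Sh.Y_notMem _)
      · rw [hIY, hIY] at h
        rw [hfinj (Sh.Y_inj h)]
    · rcases (Sh.mem_iff χ).1 hχ with h | ⟨i, rfl⟩
      · refine ⟨(eX.symm ⟨χ, h⟩ : IrrCharacter G'), (Sh'.mem_iff _).2 (Or.inl (eX.symm ⟨χ, h⟩).2),
          ?_⟩
        rw [hIX _ (eX.symm ⟨χ, h⟩).2, Subtype.coe_eta, Equiv.apply_symm_apply]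
      · obtain ⟨j, rfl⟩ := hfbij.2 i
        exact ⟨Sh'.Y j, (Sh'.mem_iff _).2 (Or.inr ⟨j, rfl⟩), hIY j⟩
  have hεpm : ∀ χ ∈ B', ε χ = 1 ∨ ε χ = -1 := by
    intro χ hχ
    rcases (Sh'.mem_iff χ).1 hχ with h | ⟨i, rfl⟩
    · rw [hεX χ h]
      rcases Sh'.hb χ h with h1 | h1 <;> rcases Sh.hb _ (hbX χ h) with h2 | h2 <;>
        rw [h1, h2] <;> norm_num
    · rw [hεY i]
      rcases Sh'.hδ with h1 | h1 <;> rcases Sh.hδ with h2 | h2 <;> rw [h1, h2] <;> norm_num
  have hN : ∀ χ ∈ B', ∀ l, L'.N χ l = ε χ * L.N (I χ) (P l) := by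
    intro χ hχ l
    by_cases hl : l = 1
    · subst hl
      rw [L'.N_one, show P 1 = 1 from MonoidHom.one_comp _, L.N_one, mul_zero]
    obtain ⟨i, t', ht', hi⟩ := L'.exists_index Sh' hl
    have h1 : L'.N χ l = L'.n χ (Sh'.rep i) := by rw [Loc.N, ← hi, L'.n_tw χ ht']
    rw [← hrl i, L'.tw_ξ ht', L'.ξ_injective.eq_iff] at hi
    have hl' : l = (rl i).comp (S'.cD t' ht') := MonoidHom.ext fun u => by
      have := DFunLike.congr_fun hi u
      simp only [MonoidHom.mul_apply] at this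
      exact (mul_left_cancel this).symm
    obtain ⟨t, ht, hPt⟩ := hPc t' ht'
    have h2 : L.N (I χ) (P l) = L.n (I χ) (Sh.rep (f i)) := by
      rw [hl', hPt, L.N_cD _ ht, Loc.N, ← hfτ i, L.n_tw _ (hτ i)]
    rw [h1, h2]
    rcases (Sh'.mem_iff χ).1 hχ with h | ⟨j, rfl⟩
    · rw [Sh'.n_X χ h i, Sh.n_X _ (hbX χ h), hεX χ h, mul_assoc]
      rcases Sh.hb _ (hbX χ h) with h3 | h3 <;> rw [h3] <;> norm_num
    · rw [hIY, hεY]
      by_cases hij : i = j
      · subst hij
        rw [Sh'.n_Y, Sh.n_Y, mul_assoc, hδ2, mul_one]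
      · rw [Sh'.n_Y_ne i j hij, Sh.n_Y_ne _ _ fun h => hij (hfinj h), mul_zero]
  refine ⟨I, ε, ⟨hbij, hεpm, ?_⟩, fun i j => by rw [hεY, hεY], fun χ hχ => ⟨hbX χ hχ, fun i => by
    rw [hεX χ hχ, hεY]; ring⟩⟩
  have hcol' := L'.colData
  rw [← hcard] at hcol'
  refine isPerfectFun_of_match S.hM (L.colData) hcol' φ.toEquiv hbij hεpm fun u χ hχ => ?_
  show L'.A χ (φ u) = (ε χ : ℂ) * L.A (I χ) u
  rw [Loc.A, Loc.A, Finset.mul_sum]
  refine Fintype.sum_bijective P (hPinj.bijective_of_nat_card_le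
    (by rw [L.card_labels, L'.card_labels, hcard])) _ _ fun l => ?_
  rw [hN χ hχ l]
  push_cast
  simp [P, mul_assoc]

end H23.Cyc
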