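import Cfsg.Agent.H23.Cyc.Transfer
import Cfsg.Agent.H23.NilpotentBlocks
import Cfsg.Agent.H19.CyclicLocal
import Cfsg.Agent.H19.AbelianSum

/-!
# The block of the centralizer of an element of order `p` in a cyclic defect group

`H23.Cyc.Setup`: a block with maximal pair `(D, f₀)`, `D` cyclic, and `z ∈ D` of order `p`;
`Loc`: the block of `C(z)` below the pair as an abstract block with inner fusion, its characters
`ξ l` (one for each linear character of `D`) and their values on the sections.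
-/

set_option autoImplicit false
set_option linter.style.haveILetI false
set_option linter.unusedSectionVars false
set_option maxHeartbeats 400000

open Cfsg
open scoped MonoidAlgebra ComplexConjugate

namespace H23.Cyc

universe u

variable {G : Type u} [Group G] [Fintype G] {p : ℕ} [hp : Fact p.Prime] {M : Ideal AlgInt}
  [hMp : M.IsPrime] [CharP (H20.k M) p] [IsAlgClosed (H20.k M)]

/-- A block with cyclic maximal pair and an element of order `p` in it. -/
structure Setup (p : ℕ) [Fact p.Prime] (M : Ideal AlgInt) [M.IsPrime]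
    [CharP (H20.k M) p] [IsAlgClosed (H20.k M)] (B : Set (IrrCharacter G))
    (D : Subgroup G) (f0 : (H20.k M)[G]) (z : G) : Prop where
  hM : IsPModular p M
  hB : IsPBlock M B
  cyc : IsCyclic D
  hmax : IsMax p (eB M B) D f0
  zD : z ∈ D
  zord : orderOf z = p

theorem exists_setup (hM : IsPModular p M) {B : Set (IrrCharacter G)} (hB : IsPBlock M B)
    {D : Subgroup G} {f0 : (H20.k M)[G]} (hmax : IsMax p (eB M B) D f0) (hD : IsCyclic D)
    (hD1 : D ≠ ⊥) : ∃ z, Setup p M B D f0 z := by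
  haveI : Nontrivial D := (Subgroup.nontrivial_iff_ne_bot D).2 hD1
  obtain ⟨n, hn0, hn⟩ := hmax.1.1.nontrivial_iff_card.1 inferInstance
  obtain ⟨z, hz⟩ := exists_prime_orderOf_dvd_card' (G := D) p (hn ▸ dvd_pow_self p hn0.ne')
  exact ⟨z, hM, hB, hD, hmax, z.2, by rw [Subgroup.orderOf_coe, hz]⟩

/-- A linear character on `P`, extended by zero. -/
noncomputable def lext {H : Type*} [Group H] {P : Subgroup H} (l : P →* ℂˣ) (g : H) : ℂ :=
  open Classical in if h : g ∈ P then (l ⟨g, h⟩ : ℂ) else 0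

theorem lext_of_mem {H : Type*} [Group H] {P : Subgroup H} (l : P →* ℂˣ) (y : P) :
    lext l (y : H) = (l y : ℂ) := dif_pos y.2

/-- The centralizer of an element. -/
abbrev Cz (z : G) : Subgroup G := Subgroup.centralizer ({z} : Set G)

namespace Setup

variable {B : Set (IrrCharacter G)} {D : Subgroup G} {f0 : (H20.k M)[G]} {z : G}
  (S : Setup p M B D f0 z)
include S


theorem comm {a b : G} (ha : a ∈ D) (hb : b ∈ D) : a * b = b * a := by
  letI := S.cyc.commGroup
  exact congrArg Subtype.val (mul_comm (⟨a, ha⟩ : D) ⟨b, hb⟩)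

theorem le_cent : D ≤ (Cz z) := fun _ ha =>
  Subgroup.mem_centralizer_singleton_iff.2 (S.comm ha S.zD)

theorem cent_le : Subgroup.centralizer (D : Set G) ≤ (Cz z) := fun a ha =>
  Subgroup.mem_centralizer_singleton_iff.2 (Subgroup.mem_centralizer_iff.1 ha z S.zD).symm

theorem zpowers_le : Subgroup.zpowers z ≤ D := Subgroup.zpowers_le.2 S.zD

theorem card_zpowers : Nat.card (Subgroup.zpowers z) = p := by rw [Nat.card_zpowers, S.zord]

theorem z_ne_one : z ≠ 1 := fun h => hp.out.ne_one (by rw [← S.zord, h, orderOf_one])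

/-- The subgroup of order `p` lies in every nontrivial cyclic subgroup of `p`-power order below
`D`. -/
theorem z_mem_zpowers {u : G} (hu : u ∈ D) (hu1 : u ≠ 1) : z ∈ Subgroup.zpowers u := by
  have hQ : Subgroup.zpowers u ≤ D := Subgroup.zpowers_le.2 hu
  haveI : Nontrivial (Subgroup.zpowers u) := (Subgroup.nontrivial_iff_ne_bot _).2
    (Subgroup.zpowers_ne_bot.2 hu1)
  obtain ⟨n, hn0, hn⟩ := (S.hmax.1.1.to_le hQ).nontrivial_iff_card.1 inferInstance
  obtain ⟨w, hw⟩ := exists_prime_orderOf_dvd_card' (G := Subgroup.zpowers u) p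
    (hn ▸ dvd_pow_self p hn0.ne')
  have h : Subgroup.zpowers (w : G) = Subgroup.zpowers z := by
    refine H19.CyclicLocal.eq_of_card_eq S.cyc (Subgroup.zpowers_le.2 (hQ w.2)) S.zpowers_le ?_
    rw [Nat.card_zpowers, Subgroup.orderOf_coe, hw, S.card_zpowers]
  have hz : z ∈ Subgroup.zpowers (w : G) := h ▸ Subgroup.mem_zpowers z
  exact Subgroup.zpowers_le.2 w.2 hz

theorem centralizer_zpowers_le {u : G} (hu : u ∈ D) (hu1 : u ≠ 1) :
    Subgroup.centralizer (Subgroup.zpowers u : Set G) ≤ (Cz z) := fun _ ha =>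
  Subgroup.mem_centralizer_singleton_iff.2
    (Subgroup.mem_centralizer_iff.1 ha z (S.z_mem_zpowers hu hu1)).symm

theorem exists_fz : ∃ f, NSub p (Subgroup.zpowers z, f) (D, f0) := by
  refine exists_nsub p S.hmax.1 S.zpowers_le fun a ha => ?_
  refine Subgroup.centralizer_le_normalizer _ (Subgroup.mem_centralizer_iff.2 fun b hb => ?_)
  exact S.comm (S.zpowers_le hb) ha

/-- The block of `C(z)` below the maximal pair. -/
noncomputable def fz : (H20.k M)[G] := S.exists_fz.choose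

theorem fz_spec : NSub p (Subgroup.zpowers z, S.fz) (D, f0) := S.exists_fz.choose_spec

theorem isBlk_fz : IsBlk (Cz z) S.fz := by
  have h := S.fz_spec.fst.2
  rwa [centralizer_zpowers] at h

theorem supp_f0 : Supp (Cz z) f0 := S.hmax.1.2.cidem.supp.mono S.cent_le

theorem fz_le : Le p (Subgroup.zpowers z, S.fz) (D, f0) := Relation.ReflTransGen.single S.fz_spec

/-- A stabilizing element fixing a nontrivial element of `D` centralizes `D`. -/
theorem free {t : G} (ht : t ∈ stab D f0) {y : G} (hy : y ∈ D) (hy1 : y ≠ 1)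
    (h : t * y * t⁻¹ = y) : t ∈ Subgroup.centralizer (D : Set G) :=
  H19.CyclicLocal.free S.hB S.cyc S.hmax t ht y hy hy1 h

section Local

variable [Fintype (Cz z)]

theorem isBlk_E : IsBlk (⊤ : Subgroup (Cz z)) (res (Cz z) S.fz) := by
  rw [← isBlk_emb_iff, emb_res S.isBlk_fz.cidem.supp]
  convert S.isBlk_fz using 1
  rw [up, ← MonoidHom.range_eq_map, Subgroup.range_subtype]

theorem up_D : up (Cz z) (D.subgroupOf (Cz z)) = D := up_subgroupOf S.le_cent

theorem isPair_K : IsPair p (D.subgroupOf (Cz z)) (res (Cz z) f0) := by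
  rw [← isPair_emb_iff (by rw [S.up_D]; exact S.cent_le), S.up_D, emb_res S.supp_f0]
  exact S.hmax.1

/-- The pair is maximal for the block of `C(z)`. -/
theorem isMax_K {bK : Set (IrrCharacter (Cz z))} (hb : IsPBlock M bK)
    (he : eB M bK = res (Cz z) S.fz) : IsMax p (eB M bK) (D.subgroupOf (Cz z)) (res (Cz z) f0) := by
  refine ⟨S.isPair_K, ?_, fun R g hg hBg hle => ?_⟩
  · rw [← inBlk_emb_iff, S.up_D, he, emb_res S.isBlk_fz.cidem.supp, emb_res S.supp_f0]
    exact S.fz_spec.mul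
  · have h := le_emb hle (by rw [S.up_D]; exact S.cent_le)
    rw [S.up_D, emb_res S.supp_f0] at h
    have hle' : D ≤ up (Cz z) R := h.le p
    have hpair := (isPair_emb_iff ((centralizer_anti hle').trans S.cent_le)).2 hg
    have heq := S.hmax.2.2 _ _ hpair ((h.inBlk_iff p (cidem_eB S.hB)).2 S.hmax.2.1) h
    refine Subgroup.map_injective (Cz z).subtype_injective ?_
    rw [show Subgroup.map (Cz z).subtype R = D from heq]
    exact S.up_D.symm

/-- Inclusions below `D` in `C(z)` are inclusions in `G`. -/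
theorem le_of_le_K {y : (Cz z)} {b : (H20.k M)[(Cz z)]}
    (h : Le p (Subgroup.zpowers y, b) (D.subgroupOf (Cz z), res (Cz z) f0)) (hy1 : y ≠ 1) :
    Le p (Subgroup.zpowers (y : G), emb (Cz z) b) (D, f0) := by
  have hy : (y : G) ∈ D := (h.le p) (Subgroup.mem_zpowers y)
  have h' := le_emb h
    (by rw [up_zpowers]; exact S.centralizer_zpowers_le hy fun h1 => hy1 (Subtype.ext h1))
  rwa [up_zpowers, S.up_D, emb_res S.supp_f0] at h'

/-- The fusion in `C(z)` is inner. -/
theorem inner : InnerOnElements p (D.subgroupOf (Cz z)) (res (Cz z) f0) := by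
  intro y hy g b h1 h2
  refine ⟨1, one_mem _, ?_⟩
  by_cases hy1 : y = 1
  · subst hy1; simp
  have hgy1 : g * y * g⁻¹ ≠ 1 := fun h => hy1 (by
    have := congrArg (fun w => g⁻¹ * w * g) h
    simpa [mul_assoc] using this)
  have H1 := S.le_of_le_K h1 hy1
  have H2 := S.le_of_le_K h2 hgy1
  have hDC : ∀ {w : G}, w ∈ D → D ≤ Subgroup.centralizer (Subgroup.zpowers w : Set G) :=
    fun hw a ha => Subgroup.mem_centralizer_iff.2 fun c hc =>
      S.comm (Subgroup.zpowers_le.2 hw hc) ha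
  obtain ⟨t, ht, htq⟩ := H17.Major.exists_stab_conj S.hB S.hmax H1 H2 (hDC (mem_of_le H1))
    (hDC (mem_of_le H2)) (x := (g : G)) (by rw [H11.Star.cjS_zpowers]; rfl) (cj_emb g b)
  have hty := htq (y : G) (Subgroup.mem_zpowers _)
  have hyD : (y : G) ∈ D := mem_of_le H1
  have hy1' : (y : G) ≠ 1 := fun h => hy1 (Subtype.ext h)
  obtain ⟨i, hi⟩ := Subgroup.mem_zpowers_iff.1 (S.z_mem_zpowers hyD hy1')
  have hgz : (g : G) * z * (g : G)⁻¹ = z := mul_inv_eq_iff_eq_mul.2
    (Subgroup.mem_centralizer_singleton_iff.1 g.2)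
  have htz : t * z * t⁻¹ = z :=
    calc t * z * t⁻¹ = (t * (y : G) * t⁻¹) ^ i := by rw [conj_zpow, hi]
      _ = (g : G) * z * (g : G)⁻¹ := by rw [hty, conj_zpow, hi]
      _ = z := hgz
  have htC := S.free ht S.zD S.z_ne_one htz
  rw [← Subgroup.mem_centralizer_iff.1 htC (y : G) hyD, mul_inv_cancel_right] at hty
  refine Subtype.ext ?_
  simpa using hty

end Local

end Setup

/-- The block of `C(z)` with its local data. -/
structure Loc (p : ℕ) [Fact p.Prime] (M : Ideal AlgInt) [M.IsPrime]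
    [CharP (H20.k M) p] [IsAlgClosed (H20.k M)] {B : Set (IrrCharacter G)} {D : Subgroup G}
    {f0 : (H20.k M)[G]} {z : G} (S : Setup p M B D f0 z)
    [Fintype (Cz z)] where
  bK : Set (IrrCharacter (Cz z))
  isBlock : IsPBlock M bK
  eB_eq : eB M bK = res (Cz z) S.fz
  χ₀ : IrrCharacter (Cz z)
  mem : χ₀ ∈ bK
  height : blockHeight p bK (χ₀ : Cz z → ℂ) = 0

theorem exists_loc {B : Set (IrrCharacter G)} {D : Subgroup G} {f0 : (H20.k M)[G]} {z : G}
    (S : Setup p M B D f0 z) [Fintype (Cz z)] :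
    Nonempty (Loc p M S) := by
  obtain ⟨bK, hb, he⟩ := exists_block_eB S.isBlk_E
  obtain ⟨χ₀, hχ₀, h0⟩ := H22.exists_height_zero (p := p) (H20.block_nonempty hb)
  exact ⟨⟨bK, hb, he, χ₀, hχ₀, Nat.sub_eq_zero_of_le h0.le⟩⟩

namespace Loc

variable {B : Set (IrrCharacter G)} {D : Subgroup G} {f0 : (H20.k M)[G]} {z : G}
  {S : Setup p M B D f0 z} [Fintype (Cz z)] (L : Loc p M S)
include L


theorem hmax : IsMax p (eB M L.bK) (D.subgroupOf (Cz z)) (res (Cz z) f0) := S.isMax_K L.isBlock L.eB_eq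

theorem stable (l : (D.subgroupOf (Cz z)) →* ℂˣ) : Stable p (D.subgroupOf (Cz z)) (res (Cz z) f0) (lext l) := by
  intro y hy g b h1 h2
  obtain ⟨π, hπ, he⟩ := S.inner y hy g b h1 h2
  rw [← he, show π * y * π⁻¹ = y from mul_inv_eq_iff_eq_mul.2 (Subtype.ext (S.comm hπ hy))]

theorem lext_mul_conj (l : (D.subgroupOf (Cz z)) →* ℂˣ) (y : (Cz z)) (hy : y ∈ (D.subgroupOf (Cz z))) :
    lext l y * conj (lext l y) = 1 := by
  have : lext l y = (l ⟨y, hy⟩ : ℂ) := lext_of_mem l ⟨y, hy⟩
  rw [this, Complex.mul_conj, Complex.normSq_eq_norm_sq,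
    Complex.norm_eq_one_of_pow_eq_one (n := Nat.card (D.subgroupOf (Cz z))) (by
      rw [← Units.val_pow_eq_pow_val, ← map_pow, pow_card_eq_one', map_one, Units.val_one])
      Nat.card_pos.ne']
  simp

theorem exists_xi (l : (D.subgroupOf (Cz z)) →* ℂˣ) : ∃ ξ : IrrCharacter (Cz z), ξ ∈ L.bK ∧
    (ξ : (Cz z) → ℂ) = starFn p (hStar p (D.subgroupOf (Cz z)) (res (Cz z) f0) (lext l)) L.χ₀ ∧
    charDegree (ξ : (Cz z) → ℂ) = charDegree (L.χ₀ : (Cz z) → ℂ) := by
  classical
  refine exists_irr_star S.hM L.isBlock L.hmax (L.stable l) ?_ ?_ (L.lext_mul_conj l) L.mem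
  · refine ⟨_, 0, H12.isCharacter_monoidHom l, H12.isCharacter_zero, ?_⟩
    funext y
    simp [lext_of_mem]
  · show lext l ((1 : (D.subgroupOf (Cz z))) : (Cz z)) = 1
    rw [lext_of_mem, map_one, Units.val_one]

/-- The character of the linear character `l`. -/
noncomputable def ξ (l : (D.subgroupOf (Cz z)) →* ℂˣ) : IrrCharacter (Cz z) := (L.exists_xi l).choose

theorem ξ_mem (l : (D.subgroupOf (Cz z)) →* ℂˣ) : L.ξ l ∈ L.bK := (L.exists_xi l).choose_spec.1

theorem ξ_eq (l : (D.subgroupOf (Cz z)) →* ℂˣ) :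
    (L.ξ l : (Cz z) → ℂ) = starFn p (hStar p (D.subgroupOf (Cz z)) (res (Cz z) f0) (lext l)) L.χ₀ :=
  (L.exists_xi l).choose_spec.2.1

/-- The block of the centralizer of an element of `D` below the pair. -/
noncomputable def bl (y : (D.subgroupOf (Cz z))) : (H20.k M)[(Cz z)] :=
  (exists_le p L.hmax.1 (Subgroup.zpowers_le.2 y.2)).choose

theorem bl_le (y : (D.subgroupOf (Cz z))) : Le p (Subgroup.zpowers (y : (Cz z)), L.bl y) ((D.subgroupOf (Cz z)), res (Cz z) f0) :=
  (exists_le p L.hmax.1 (Subgroup.zpowers_le.2 y.2)).choose_spec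

theorem bl_mem (y : (D.subgroupOf (Cz z))) : L.bl y ∈ Bls M (y : (Cz z)) :=
  mem_Bls.2 ((L.bl_le y).pair_left p L.hmax.1).2

theorem weight_eq_one (y : (D.subgroupOf (Cz z))) : weightC p (D.subgroupOf (Cz z)) L.χ₀ (y : (Cz z)) (L.bl y) = 1 := by
  classical
  exact weightC_eq_one S.hM L.isBlock L.hmax S.inner L.mem L.height L.bl L.bl_le y

theorem exists_ne_zero (y : (D.subgroupOf (Cz z))) :
    ∃ g : (Cz z), H20.pPart p g = (y : (Cz z)) ∧ T L.χ₀ g (L.bl y) ≠ 0 := by
  classical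
  have h := L.weight_eq_one y
  by_contra hne
  push Not at hne
  have h0 : pairC p (y : (Cz z)) (L.bl y) L.χ₀ L.χ₀ = 0 := by
    unfold pairC
    rw [Finset.sum_eq_zero fun g _ => ?_, mul_zero]
    by_cases hg : H20.pPart p g = (y : (Cz z))
    · rw [if_pos hg, hne g hg, zero_mul]
    · rw [if_neg hg]
  rw [weightC, h0, mul_zero] at h
  exact zero_ne_one h

/-- The values of `ξ l` on the sections. -/
theorem T_ξ (l : (D.subgroupOf (Cz z)) →* ℂˣ) (y : (D.subgroupOf (Cz z))) {g : (Cz z)} (hg : H20.pPart p g = (y : (Cz z))) :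
    T (L.ξ l) g (L.bl y) = (l y : ℂ) * T L.χ₀ g (L.bl y) := by
  rw [T_star S.hM (L.ξ_eq l) (hg ▸ L.bl_mem y), hg, hStar_below (L.stable l) (L.bl_le y),
    lext_of_mem]

theorem ξ_injective : Function.Injective L.ξ := by
  intro l l' h
  refine MonoidHom.ext fun y => Units.ext ?_
  obtain ⟨g, hg, hne⟩ := L.exists_ne_zero y
  have h1 := L.T_ξ l y hg
  rw [h, L.T_ξ l' y hg] at h1
  exact mul_right_cancel₀ hne h1.symm

theorem card_bK : Nat.card L.bK = Nat.card D := by
  classical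
  obtain ⟨ψ, hinj, hrange, -⟩ := nilpotent_main S.hM L.isBlock L.hmax S.inner L.mem L.height
  haveI : Fintype (D.subgroupOf (Cz z)) := Fintype.ofFinite _
  letI : CommGroup (D.subgroupOf (Cz z)) := { (inferInstance : Group (D.subgroupOf (Cz z))) with
    mul_comm := fun a b => Subtype.ext (Subtype.ext (S.comm a.2 b.2)) }
  rw [← hrange, Nat.card_range_of_injective hinj, Nat.card_congr ((Equiv.subtypeUnivEquiv (H12.irr_apply_one_of_comm mul_comm)).symm.trans
      H12.linIrrEquiv.symm),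
    CommGroup.card_monoidHom_of_hasEnoughRootsOfUnity (D.subgroupOf (Cz z)) ℂ,
    Nat.card_congr (Subgroup.subgroupOfEquivOfLe S.le_cent).toEquiv]

theorem exists_ξ_eq {η : IrrCharacter (Cz z)} (hη : η ∈ L.bK) : ∃ l, L.ξ l = η := by
  classical
  haveI : Fintype (D.subgroupOf (Cz z)) := Fintype.ofFinite _
  letI : CommGroup (D.subgroupOf (Cz z)) := { (inferInstance : Group (D.subgroupOf (Cz z))) with
    mul_comm := fun a b => Subtype.ext (Subtype.ext (S.comm a.2 b.2)) }
  have h1 : Set.range L.ξ = L.bK := by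
    refine Set.eq_of_subset_of_ncard_le (Set.range_subset_iff.2 L.ξ_mem) ?_ (Set.toFinite _)
    rw [← Nat.card_coe_set_eq, ← Nat.card_coe_set_eq, Nat.card_range_of_injective L.ξ_injective,
      L.card_bK, CommGroup.card_monoidHom_of_hasEnoughRootsOfUnity (D.subgroupOf (Cz z)) ℂ,
      Nat.card_congr (Subgroup.subgroupOfEquivOfLe S.le_cent).toEquiv]
  rw [← h1] at hη
  exact hη

/-- The characters of the block agree on regular elements. -/
theorem ξ_reg (l : (D.subgroupOf (Cz z)) →* ℂˣ) {g : (Cz z)} (hg : ¬ p ∣ orderOf g) :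
    (L.ξ l : (Cz z) → ℂ) g = (L.χ₀ : (Cz z) → ℂ) g := by
  classical
  rw [L.ξ_eq, ← starFn_one S.hM L.isBlock L.hmax L.mem, starFn_eq, starFn_eq]
  refine Finset.sum_congr rfl fun b hb => ?_
  by_cases hin : InBlk (eB M L.bK) (Subgroup.zpowers (H20.pPart p g)) b
  · obtain ⟨x, hx⟩ := exists_below L.isBlock L.hmax (H20.exists_orderOf_pPart _) hb hin
    rw [hStar_eq stable_one hx, hStar_eq (L.stable l) hx, H20.pPart_eq_one_iff.2 hg, mul_one,
      inv_mul_cancel, show lext l (1 : (Cz z)) = (l 1 : ℂ) from lext_of_mem l 1, map_one,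
      Units.val_one, Pi.one_apply]
  · rw [T_eq_zero_of_not_inBlk S.hM L.isBlock L.mem hb hin, mul_zero, mul_zero]

/-- Off the sections of `D` the block vanishes. -/
theorem exists_conj_of_ne_zero {η : IrrCharacter (Cz z)} (hη : η ∈ L.bK) {g : (Cz z)}
    (h : (η : (Cz z) → ℂ) g ≠ 0) : ∃ x : (Cz z), x⁻¹ * H20.pPart p g * x ∈ (D.subgroupOf (Cz z)) := by
  classical
  obtain ⟨l, rfl⟩ := L.exists_ξ_eq hη
  rw [L.ξ_eq, starFn_eq] at h
  obtain ⟨b, hb, hne⟩ := Finset.exists_ne_zero_of_sum_ne_zero h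
  by_cases hin : InBlk (eB M L.bK) (Subgroup.zpowers (H20.pPart p g)) b
  · obtain ⟨x, hx⟩ := exists_below L.isBlock L.hmax (H20.exists_orderOf_pPart _) hb hin
    exact ⟨x, mem_of_le (le_pull hx)⟩
  · exact absurd (by rw [T_eq_zero_of_not_inBlk S.hM L.isBlock L.mem hb hin, mul_zero]) hne

end Loc

end H23.Cyc
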