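import Cfsg.Agent.H23.Cyc.Iso
import Cfsg.Agent.H20.KleinIso

/-!
# The correspondent in the normalizer of the subgroup of order `p`
-/

set_option autoImplicit false
set_option linter.style.haveILetI false
set_option linter.unusedSectionVars false
set_option maxHeartbeats 400000

open Cfsg
open scoped MonoidAlgebra

namespace H23.Cyc

universe u

/-- A block with cyclic defect group and its correspondent in a subgroup containing the inertial
group are perfectly isometric. -/
theorem isometry_correspondent {G : Type u} [Group G] [Fintype G] {p : ℕ} [hp : Fact p.Prime]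
    {M : Ideal AlgInt} [M.IsPrime] [CharP (H20.k M) p] [IsAlgClosed (H20.k M)]
    (hM : IsPModular p M) {B : Set (IrrCharacter G)} (hB : IsPBlock M B) {P : Subgroup G}
    (hPD : IsDefectGroup p M B P) (hP1 : P ≠ ⊥) (hcyc : IsCyclic P) {H : Subgroup G}
    (hPH : P ≤ H) (hCH : Subgroup.centralizer (P : Set G) ≤ H)
    (hNH : Subgroup.normalizer (P : Set G) ≤ H) {c : Set (IrrCharacter H)}
    (hcD : IsDefectGroup p M c (P.subgroupOf H)) (hc : IsInducedBlock M H c B) :
    Nat.card c = Nat.card B ∧ blockRank p c = blockRank p B ∧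
      ∃ (I : IrrCharacter H → IrrCharacter G) (ε : IrrCharacter H → ℤ),
        IsPerfectIsometry p M c B I ε := by
  classical
  haveI := Fintype.ofFinite H
  have hab : ∀ x ∈ P, ∀ y ∈ P, x * y = y * x := fun x hx y hy => by
    letI := hcyc.commGroup
    exact congrArg Subtype.val (mul_comm (⟨x, hx⟩ : P) ⟨y, hy⟩)
  set P' := P.subgroupOf H with hP'
  have hcyc' : IsCyclic P' := by
    haveI := hcyc
    exact isCyclic_of_surjective (Subgroup.subgroupOfEquivOfLe hPH).symm.toMonoidHom
      (Subgroup.subgroupOfEquivOfLe hPH).symm.surjective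
  have hcard : Nat.card P' = Nat.card P := Nat.card_congr (Subgroup.subgroupOfEquivOfLe hPH).toEquiv
  have hP1' : P' ≠ ⊥ := fun h => hP1 (Subgroup.card_eq_one.1 (by rw [← hcard, h]; simp))
  have hab' : ∀ x ∈ P', ∀ y ∈ P', x * y = y * x := fun x hx y hy =>
    Subtype.ext (hab _ hx _ hy)
  obtain ⟨c₁, hc₁⟩ := H19.AbelianNilpotent.exists_root (G := H) hM hc.1 hcD hab'
  have hmem : ∀ k : H, k ∈ Subgroup.centralizer (P' : Set H) ↔
      (k : G) ∈ Subgroup.centralizer (P : Set G) := fun k => H21.mem_centralizer_subgroupOf hPH k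
  obtain ⟨c₀, hc₀, rfl⟩ := H20.Klein.exists_pull_eq (M := M) hCH hmem hc₁.1
  have hc₀B := H20.Klein.induced_trans hCH hmem hc₀ hc₁ hc
  have hmax := H19.AbelianLocal.isMax_cent hM hB hPD hab hc₀B
  have hmax' := H19.AbelianLocal.isMax_cent hM hc.1 hcD hab' hc₁
  set f0 := eG M (Subgroup.centralizer (P : Set G)) c₀ with hf0
  set f0' := eG M (Subgroup.centralizer (P' : Set H))
    (H19.Transport.pull hCH hmem c₀) with hf0'
  have hstab : stab P' f0' = (stab P f0).subgroupOf H := by
    ext g
    rw [Subgroup.mem_subgroupOf, hf0, hf0', H19.AbelianLocal.mem_stab_iff hc₁.1,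
      H19.AbelianLocal.mem_stab_iff hc₀, H19.Transport.stabilizesBlock_pull_iff hCH hmem,
      H19.Transport.mem_normalizer_copy hPH (fun k : H => Subgroup.mem_subgroupOf) g]
  have hTH : stab P f0 ≤ H := fun g hg => hNH hg.1
  have he : (Subgroup.centralizer (P : Set G)).relIndex (stab P f0) =
      (Subgroup.centralizer (P' : Set H)).relIndex (stab P' f0') := by
    rw [hstab, show Subgroup.centralizer (P' : Set H) =
      (Subgroup.centralizer (P : Set G)).subgroupOf H from
        Subgroup.ext fun k => by rw [hmem, Subgroup.mem_subgroupOf],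
      Subgroup.relIndex_subgroupOf hTH]
  obtain ⟨z, S⟩ := exists_setup hM hB hmax hcyc hP1
  haveI := Fintype.ofFinite (Cz z)
  obtain ⟨L⟩ := exists_loc S
  obtain ⟨ι, _, ⟨Sh⟩⟩ := L.exists_shape
  obtain ⟨w, S'⟩ := exists_setup hM hc.1 hmax' hcyc' hP1'
  haveI := Fintype.ofFinite (Cz w)
  obtain ⟨L'⟩ := exists_loc S'
  obtain ⟨ι', _, ⟨Sh'⟩⟩ := L'.exists_shape
  obtain ⟨I, ε, hiso, -, -⟩ := exists_isometry Sh Sh' hcard.symm he
  exact ⟨Nat.card_congr (Set.BijOn.equiv I hiso.1), by rw [Sh'.rank, Sh.rank, he],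
    I, ε, hiso⟩

end H23.Cyc
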