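import Cfsg.Agent.H23.Cyc.Gram
import Cfsg.Agent.H20.Coherence
import Cfsg.Agent.H19.AbelianFree
import Cfsg.Agent.H85.Cyclic.Unique

/-!
# The shape of a block with cyclic defect group

`exists_shape`: the block consists of `e` characters `X` and `(|D| - 1)/e` characters `Y i`, one
for each orbit of the inertial group on the local block, the multiplicity vectors being signs.
-/

set_option autoImplicit false
set_option linter.style.haveILetI false
set_option linter.unusedSectionVars false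
set_option maxHeartbeats 400000

open Cfsg
open scoped MonoidAlgebra ComplexConjugate

namespace H23.Cyc

universe u

variable {G : Type u} [Group G] [Fintype G] {p : ℕ} [hp : Fact p.Prime] {M : Ideal AlgInt}
  [hMp : M.IsPrime] [CharP (H20.k M) p] [IsAlgClosed (H20.k M)]
  {B : Set (IrrCharacter G)} {D : Subgroup G} {f0 : (H20.k M)[G]} {z : G}

namespace Setup

variable (S : Setup p M B D f0 z)
include S

theorem index_le_blockRank :
    (Subgroup.centralizer (D : Set G)).relIndex (stab D f0) ≤ blockRank p B :=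
  H85.Cyc.Setup.index_le_blockRank
    ({ hM := S.hM, B := B, hB := S.hB, D := D, hcyc := S.cyc, f₀ := f0, hmax := S.hmax
       D1 := Subgroup.zpowers z, hD1 := S.zpowers_le, hcard := S.card_zpowers, f1 := S.fz
       hle := S.fz_le } : H85.Cyc.Setup M G p)

end Setup

/-- The characters of the block and their multiplicity vectors. -/
structure Shape {S : Setup p M B D f0 z} [Fintype (Cz z)] (L : Loc p M S) (ι : Type u) where
  rep : ι → IrrCharacter (Cz z)
  rep_mem : ∀ i, rep i ∈ L.bK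
  rep_ne : ∀ i, rep i ≠ L.η₀
  rep_cover : ∀ η ∈ L.bK, η ≠ L.η₀ → ∃ i, ∃ t ∈ stab D f0, tw t (rep i) = η
  rep_inj : ∀ i j, ∀ t ∈ stab D f0, tw t (rep i) = rep j → i = j
  δ : ℤ
  Y : ι → IrrCharacter G
  X : Finset (IrrCharacter G)
  b : IrrCharacter G → ℤ
  hδ : δ = 1 ∨ δ = -1
  Y_inj : Function.Injective Y
  Y_notMem : ∀ i, Y i ∉ X
  mem_iff : ∀ χ, χ ∈ B ↔ χ ∈ X ∨ ∃ i, Y i = χ
  hb : ∀ χ ∈ X, b χ = 1 ∨ b χ = -1
  n_X : ∀ χ ∈ X, ∀ i, L.n χ (rep i) = b χ
  n_Y : ∀ i, L.n (Y i) (rep i) = δ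
  n_Y_ne : ∀ i j, i ≠ j → L.n (Y j) (rep i) = 0
  n_out : ∀ χ, χ ∉ B → ∀ η ∈ L.bK, L.n χ η = 0
  card_X : X.card = (Subgroup.centralizer (D : Set G)).relIndex (stab D f0)
  card_ι : Nat.card ι * (Subgroup.centralizer (D : Set G)).relIndex (stab D f0) + 1 = Nat.card D
  card_B : Nat.card B = blockRank p B + Nat.card ι
  rank : blockRank p B = (Subgroup.centralizer (D : Set G)).relIndex (stab D f0)

namespace Loc

variable {S : Setup p M B D f0 z} [Fintype (Cz z)] (L : Loc p M S)
include L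

theorem finite_sum_labels [Fintype (D.subgroupOf (Cz z) →* ℂˣ)]
    [Fintype (D.subgroupOf (Cz z))] (N : (D.subgroupOf (Cz z) →* ℂˣ) → ℂ)
    (h : ∀ u, u ≠ 1 → ∑ l, N l * (l u : ℂ) = 0) (m m' : D.subgroupOf (Cz z) →* ℂˣ) :
    N m = N m' := by
  classical
  suffices key : ∀ m : D.subgroupOf (Cz z) →* ℂˣ,
      (Nat.card (D.subgroupOf (Cz z)) : ℂ) * N m = ∑ l, N l by
    exact mul_left_cancel₀ (Nat.cast_ne_zero.2 Nat.card_pos.ne') ((key m).trans (key m').symm)
  intro m
  have h1 : ∑ u : D.subgroupOf (Cz z), (∑ l, N l * (l u : ℂ)) * ((m⁻¹ u : ℂˣ) : ℂ) = ∑ l, N l := by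
    rw [Finset.sum_eq_single 1 (fun u _ hu => by rw [h u hu, zero_mul])
      (fun h => absurd (Finset.mem_univ _) h)]
    simp
  rw [← h1]
  simp only [Finset.sum_mul]
  rw [Finset.sum_comm, Finset.sum_eq_single m (fun l _ hl => ?_)
    (fun h => absurd (Finset.mem_univ _) h)]
  · simp [Nat.card_eq_fintype_card, mul_comm]
  · have h2 : ((Units.coeHom ℂ).comp (l * m⁻¹)) ≠ 1 := fun h => hl (mul_inv_eq_one.1
      (MonoidHom.ext fun u => Units.ext (DFunLike.congr_fun h u)))
    have h3 := sum_hom_units ((Units.coeHom ℂ).comp (l * m⁻¹))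
    rw [if_neg h2] at h3
    simp only [MonoidHom.coe_comp, Function.comp_apply, Units.coeHom_apply, MonoidHom.mul_apply,
      Units.val_mul, Nat.cast_zero] at h3
    simp only [mul_assoc, ← Finset.mul_sum, h3, mul_zero]

/-- Outside the block the multiplicity vectors vanish. -/
theorem n_eq_zero {χ : IrrCharacter G} (hχ : χ ∉ B) {η : IrrCharacter (Cz z)} (hη : η ∈ L.bK) :
    L.n χ η = 0 := by
  classical
  haveI := L.finite_labels
  haveI : Fintype (D.subgroupOf (Cz z) →* ℂˣ) := Fintype.ofFinite _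
  haveI : Fintype (D.subgroupOf (Cz z)) := Fintype.ofFinite _
  obtain ⟨l, rfl⟩ := L.exists_ξ_eq hη
  obtain ⟨l0, hl0⟩ := L.exists_ξ_eq L.η₀_mem
  have h : ∀ u : D.subgroupOf (Cz z), u ≠ 1 → ∑ l, (L.n χ (L.ξ l) : ℂ) * (l u : ℂ) = 0 := by
    intro u hu
    obtain ⟨g, hg, hne⟩ := L.exists_ne_zero u
    refine (mul_eq_zero.1 ?_).resolve_left hne
    rw [← L.T_section χ hu hg]
    have hle := L.emb_bl_le hu
    have hpair := hle.pair_left p S.hmax.1
    have hgu : H20.pPart p (g : G) = ((u : Cz z) : G) := by rw [H20.pPart_coe, hg]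
    refine T_eq_zero_of_not_inBlk S.hM (H20.isPBlock_blockOf χ) (H20.mem_blockOf_self χ)
      (hgu ▸ mem_Bls.2 hpair.2) fun h => hχ ?_
    rw [hgu] at h
    rw [eB_injective S.hB (H20.isPBlock_blockOf χ) (inBlk_unique p hpair (isBlk_eB S.hB)
      (isBlk_eB (H20.isPBlock_blockOf χ)) ((hle.inBlk_iff p (cidem_eB S.hB)).1 S.hmax.2.1) h)]
    exact H20.mem_blockOf_self χ
  have := L.finite_sum_labels (fun l => (L.n χ (L.ξ l) : ℂ)) h l l0
  rw [hl0, L.n_η₀] at this
  exact_mod_cast this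

/-- Every character of the block is seen by a multiplicity vector. -/
theorem exists_n_ne_zero {χ : IrrCharacter G} (hχ : χ ∈ B) :
    ∃ η ∈ L.bK, η ≠ L.η₀ ∧ L.n χ η ≠ 0 := by
  classical
  haveI := L.finite_labels
  haveI : Fintype (D.subgroupOf (Cz z) →* ℂˣ) := Fintype.ofFinite _
  set u : D.subgroupOf (Cz z) := ⟨⟨z, S.le_cent S.zD⟩, S.zD⟩ with hu
  have hu1 : u ≠ 1 := fun h => S.z_ne_one (congrArg (fun w : D.subgroupOf (Cz z) =>
    ((w : Cz z) : G)) h)
  have hle : Le p (Subgroup.zpowers z, emb (Cz z) (L.bl u)) (D, f0) := L.emb_bl_le hu1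
  have hne : pairC p z (emb (Cz z) (L.bl u)) χ χ ≠ 0 := by
    haveI : ∀ R : Subgroup G, Fintype R := fun R => Fintype.ofFinite _
    exact H20.FAb.pairC_self_ne_zero S.hM S.hB (fun a ha b hb => S.comm ha hb) S.hmax S.zD hle hχ
  obtain ⟨g, hg, hT⟩ : ∃ g : G, H20.pPart p g = z ∧ T χ g (emb (Cz z) (L.bl u)) ≠ 0 := by
    by_contra h
    push Not at h
    refine hne (mul_eq_zero_of_right _ (Finset.sum_eq_zero fun g _ => ?_))
    by_cases hg : H20.pPart p g = z
    · rw [if_pos hg, h g hg, zero_mul]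
    · rw [if_neg hg]
  have hgK : g ∈ Cz z := by
    have h := mem_centralizer_pPart (p := p) g
    rwa [hg, centralizer_zpowers] at h
  have hg' : H20.pPart p (⟨g, hgK⟩ : Cz z) = (u : Cz z) :=
    Subtype.ext (by rw [← H20.pPart_coe]; exact hg)
  rw [show g = ((⟨g, hgK⟩ : Cz z) : G) from rfl, L.T_section χ hu1 hg'] at hT
  obtain ⟨l, -, hl⟩ := Finset.exists_ne_zero_of_sum_ne_zero (right_ne_zero_of_mul hT)
  have hn : L.n χ (L.ξ l) ≠ 0 := fun h => hl (by rw [h, Int.cast_zero, zero_mul])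
  exact ⟨L.ξ l, L.ξ_mem l, fun h => hn (by rw [h, L.n_η₀]), hn⟩

/-- Vectors with Gram matrix `e J + I` meeting all `e + t` members are signs. -/
theorem exists_signs {ι : Type u} [Fintype ι] [DecidableEq ι] (v : ι → IrrCharacter G → ℤ)
    (e : ℕ) (hgram : ∀ i j, ∑ χ, v i χ * v j χ = (e : ℤ) + if i = j then 1 else 0)
    (hdeg : ∀ i, ∑ χ, v i χ * (charDegree (χ : G → ℂ) : ℤ) = 0)
    (hin : ∀ χ ∈ B, ∃ i, v i χ ≠ 0) (hout : ∀ χ ∉ B, ∀ i, v i χ = 0)
    (hι : 1 ≤ Fintype.card ι) (hk : e + Fintype.card ι ≤ Nat.card B) :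
    ∃ (δ : ℤ) (Y : ι → IrrCharacter G) (b : IrrCharacter G → ℤ), (δ = 1 ∨ δ = -1) ∧
      Function.Injective Y ∧
      (∀ i χ, v i χ = b χ + δ * @ite _ (χ = Y i) (Classical.dec _) 1 0) ∧ ∀ i, b (Y i) = 0 := by
  classical
  have hcard : Nat.card B = (Finset.univ.filter (· ∈ B)).card := by
    rw [Nat.card_eq_fintype_card, Fintype.card_subtype]
  by_cases h2 : 2 ≤ Fintype.card ι
  · obtain ⟨δ, Y, b, hδ, hY, hvb, hbY⟩ := H20.Coherence.coherent v
      (deg := fun χ : IrrCharacter G => (charDegree (χ : G → ℂ) : ℤ))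
      (fun χ => by exact_mod_cast H22.charDegree_pos χ) e hgram
      (fun i j => by simp only [sub_mul, Finset.sum_sub_distrib, hdeg, sub_zero]) h2
    obtain ⟨i0⟩ : Nonempty ι := Fintype.card_pos_iff.1 (by omega)
    set c := b (Y i0) with hc
    have hY0 : ∀ i, b (Y i) = c := fun i => hbY i i0
    have hnorm : ∑ χ, b χ * b χ + 2 * δ * c = (e : ℤ) := by
      have h := hgram i0 i0
      simp only [hvb i0, if_pos, add_mul, mul_add, Finset.sum_add_distrib, mul_ite, mul_one,
        mul_zero, ite_mul, zero_mul, Finset.sum_ite_eq', Finset.mem_univ, if_true, ← hc] at h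
      rcases hδ with rfl | rfl <;> linarith
    have h1 : ∀ χ ∈ Finset.univ.filter (fun χ => χ ∈ B ∧ χ ∉ Finset.univ.image Y),
        1 ≤ b χ * b χ := by
      intro χ hχ
      obtain ⟨hχB, hχY⟩ := (Finset.mem_filter.1 hχ).2
      obtain ⟨i, hi⟩ := hin χ hχB
      rw [hvb i χ, if_neg fun h => hχY (Finset.mem_image.2 ⟨i, Finset.mem_univ _, h.symm⟩),
        mul_zero, add_zero] at hi
      rcases lt_or_gt_of_ne hi with h | h <;> nlinarith
    have hsub : (Finset.univ.filter fun χ => χ ∈ B ∧ χ ∉ Finset.univ.image Y) ∪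
        Finset.univ.image Y ⊆ Finset.univ := Finset.subset_univ _
    have hdisj : Disjoint (Finset.univ.filter fun χ => χ ∈ B ∧ χ ∉ Finset.univ.image Y)
        (Finset.univ.image Y) :=
      Finset.disjoint_left.2 fun χ hχ => (Finset.mem_filter.1 hχ).2.2
    have hbig : (e : ℤ) + Fintype.card ι * (c * c) ≤ ∑ χ, b χ * b χ := by
      refine le_trans ?_ (Finset.sum_le_sum_of_subset_of_nonneg hsub
        fun χ _ _ => mul_self_nonneg (b χ))
      rw [Finset.sum_union hdisj]
      refine add_le_add ?_ ?_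
      · refine le_trans ?_ (Finset.sum_le_sum h1)
        rw [Finset.sum_const, nsmul_eq_mul, mul_one, Nat.cast_le]
        have h3 : (Finset.univ.filter (· ∈ B)).card ≤
            (Finset.univ.filter fun χ => χ ∈ B ∧ χ ∉ Finset.univ.image Y).card +
              (Finset.univ.image Y).card := by
          refine (Finset.card_le_card fun χ hχ => ?_).trans (Finset.card_union_le _ _)
          by_cases hy : χ ∈ Finset.univ.image Y
          · exact Finset.mem_union_right _ hy
          · exact Finset.mem_union_left _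
              (Finset.mem_filter.2 ⟨Finset.mem_univ _, (Finset.mem_filter.1 hχ).2, hy⟩)
        rw [Finset.card_image_of_injective _ hY, Finset.card_univ] at h3
        omega
      · rw [Finset.sum_image fun a _ b' _ h => hY h]
        simp [hY0]
    have ht : (2 : ℤ) ≤ Fintype.card ι := by exact_mod_cast h2
    by_cases hc0 : c = 0
    · exact ⟨δ, Y, b, hδ, hY, fun i χ => by rw [hvb i χ]; split_ifs <;> rfl,
        fun i => (hY0 i).trans hc0⟩
    · have h4 : c = -δ ∧ Fintype.card ι = 2 := by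
        have h5 : 0 < c * c := lt_of_le_of_ne (mul_self_nonneg c)
          (fun h => hc0 (mul_self_eq_zero.1 h.symm))
        have h6 : (Fintype.card ι : ℤ) * (c * c) + 2 * δ * c ≤ 0 := by linarith
        have h7 : 0 ≤ (c + δ) * (c + δ) := mul_self_nonneg _
        have hδ2 : δ * δ = 1 := by rcases hδ with rfl | rfl <;> norm_num
        have hc1 : c * c = 1 := by
          by_contra hne
          have h8 : 4 ≤ c * c := by
            have hge : 2 ≤ c ∨ c ≤ -2 := by
              by_contra h9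
              obtain h10 | h10 : c = 1 ∨ c = -1 := by omega
              · exact hne (by rw [h10]; norm_num)
              · exact hne (by rw [h10]; norm_num)
            rcases hge with h9 | h9 <;> nlinarith
          rcases hδ with rfl | rfl <;> nlinarith
        rcases hδ with rfl | rfl <;> rcases sq_eq_one_iff.1 ((sq c).trans hc1) with h9 | h9 <;>
          rw [h9] at h6 <;> constructor <;> omega
      obtain ⟨eqv⟩ : Nonempty (ι ≃ Fin 2) := ⟨Fintype.equivFinOfCardEq h4.2⟩
      have hs : ∀ i, eqv.trans ((Equiv.addRight (1 : Fin 2)).trans eqv.symm) i ≠ i := by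
        intro i h
        simp only [Equiv.trans_apply, Equiv.symm_apply_eq, Equiv.coe_addRight] at h
        revert h
        generalize eqv i = a
        revert a
        decide
      obtain ⟨b', hb', hbY'⟩ := H20.Coherence.coherent_flip v hY hvb _ hs h4.2
      refine ⟨-δ, fun i => Y (eqv.trans ((Equiv.addRight (1 : Fin 2)).trans eqv.symm) i), b',
        by rcases hδ with rfl | rfl <;> norm_num, hY.comp (Equiv.injective _),
        fun i χ => by rw [hb' i χ]; split_ifs <;> rfl, fun i => ?_⟩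
      rw [hbY', hY0, h4.1, neg_add_cancel]
  · obtain ⟨i0, hi0⟩ : ∃ i0 : ι, ∀ i, i = i0 := by
      obtain ⟨i0⟩ : Nonempty ι := Fintype.card_pos_iff.1 (by omega)
      exact ⟨i0, fun i => Fintype.card_le_one_iff.1 (by omega) i i0⟩
    have hv1 : ∀ χ ∈ Finset.univ.filter (· ∈ B), (1 : ℤ) ≤ v i0 χ * v i0 χ := by
      intro χ hχ
      obtain ⟨i, hi⟩ := hin χ (Finset.mem_filter.1 hχ).2
      rw [hi0 i] at hi
      rcases lt_or_gt_of_ne hi with h | h <;> nlinarith
    have hsum : ∑ χ ∈ Finset.univ.filter (· ∈ B), v i0 χ * v i0 χ = (e : ℤ) + 1 := by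
      rw [Finset.sum_subset (Finset.subset_univ _) fun χ _ hχ => by
        rw [hout χ (fun h => hχ (Finset.mem_filter.2 ⟨Finset.mem_univ _, h⟩)), mul_zero]]
      simpa using hgram i0 i0
    have heq := (Finset.sum_eq_sum_iff_of_le hv1).1 (le_antisymm (Finset.sum_le_sum hv1) (by
      rw [hsum, Finset.sum_const, nsmul_eq_mul, mul_one]
      have : e + 1 ≤ (Finset.univ.filter (· ∈ B)).card := by omega
      exact_mod_cast this))
    obtain ⟨χ0, hχ0⟩ : ∃ χ0, χ0 ∈ Finset.univ.filter (· ∈ B) := by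
      by_contra h
      push Not at h
      rw [Finset.eq_empty_iff_forall_notMem.2 h, Finset.sum_empty] at hsum
      omega
    refine ⟨v i0 χ0, fun _ => χ0, fun χ => if χ = χ0 then 0 else v i0 χ,
      mul_self_eq_one_iff.1 (heq χ0 hχ0).symm,
      fun a b _ => (hi0 a).trans (hi0 b).symm, fun i χ => ?_, fun i => if_pos rfl⟩
    rw [hi0 i]
    by_cases h : χ = χ0
    · simp [h]
    · simp [h]

/-- The block has the expected shape. -/
theorem exists_shape : ∃ (ι : Type u) (_ : Fintype ι), Nonempty (Shape L ι) := by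
  classical
  obtain ⟨R, hR, hR1, hR2, hRc⟩ := S.exists_reps
  let E : Type u := {η : IrrCharacter (Cz z) // η ∈ L.bK ∧ η ≠ L.η₀}
  let s : Setoid E :=
    { r := fun a b => ∃ t ∈ stab D f0, tw t a.1 = b.1
      iseqv :=
        ⟨fun a => ⟨1, one_mem _, tw_one _⟩,
        fun {a b} ⟨t, ht, h⟩ => ⟨t⁻¹, inv_mem ht, by
          rw [← h, ← tw_mul (S.stab_le_Nz ht) (S.stab_le_Nz (inv_mem ht)), mul_inv_cancel, tw_one]⟩,
        fun {a b c} ⟨t, ht, h⟩ ⟨t', ht', h'⟩ => ⟨t * t', mul_mem ht ht', by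
          rw [tw_mul (S.stab_le_Nz ht) (S.stab_le_Nz ht'), h, h']⟩⟩ }
  haveI : Fintype (Quotient s) := Fintype.ofFinite _
  set rep : Quotient s → IrrCharacter (Cz z) := fun i => i.out.1 with hrep
  have rep_cover : ∀ η ∈ L.bK, η ≠ L.η₀ → ∃ i, ∃ t ∈ stab D f0, tw t (rep i) = η :=
    fun η h1 h2 => ⟨_, Quotient.mk_out (s := s) ⟨η, h1, h2⟩⟩
  have rep_inj : ∀ i j, ∀ t ∈ stab D f0, tw t (rep i) = rep j → i = j := by
    intro i j t ht h
    rw [← Quotient.out_eq i, ← Quotient.out_eq j]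
    exact Quotient.sound ⟨t, ht, h⟩
  have hfree : ∀ i, ∀ r ∈ R, ∀ r' ∈ R, tw r (rep i) = tw r' (rep i) → r = r' := by
    intro i r hr r' hr' h
    have ht := mul_mem (hR r' hr') (inv_mem (hR r hr))
    have hC : r' * r⁻¹ ∈ Subgroup.centralizer (D : Set G) := by
      refine L.free ht i.out.2.1 i.out.2.2 ?_
      rw [tw_mul (S.stab_le_Nz (hR r' hr')) (S.stab_le_Nz (inv_mem (hR r hr))), ← h,
        ← tw_mul (S.stab_le_Nz (hR r hr)) (S.stab_le_Nz (inv_mem (hR r hr))), mul_inv_cancel,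
        tw_one]
    refine hR2 r hr r' hr' ?_
    have := mem_centralizer_conj (inv_mem (hR r hr).1) hC
    simpa [mul_assoc] using this
  have hbij : Function.Bijective fun ir : Quotient s × R =>
      (⟨tw (ir.2 : G) (rep ir.1), L.tw_stab_mem (hR _ ir.2.2) ir.1.out.2.1,
        fun h => ir.1.out.2.2 (tw_injective (S.stab_le_Nz (hR _ ir.2.2))
          (h.trans (L.tw_η₀ (hR _ ir.2.2)).symm))⟩ : E) := by
    constructor
    · rintro ⟨i, r, hr⟩ ⟨j, r', hr'⟩ h
      have h' : tw r (rep i) = tw r' (rep j) := congrArg Subtype.val h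
      obtain rfl : i = j := rep_inj i j (r * r'⁻¹) (mul_mem (hR r hr) (inv_mem (hR r' hr'))) (by
        rw [tw_mul (S.stab_le_Nz (hR r hr)) (S.stab_le_Nz (inv_mem (hR r' hr'))), h',
          ← tw_mul (S.stab_le_Nz (hR r' hr')) (S.stab_le_Nz (inv_mem (hR r' hr'))),
          mul_inv_cancel, tw_one])
      obtain rfl := hfree i r hr r' hr' h'
      rfl
    · rintro ⟨η, h1, h2⟩
      obtain ⟨i, t, ht, hti⟩ := rep_cover η h1 h2
      obtain ⟨r, hr, hrt⟩ := hR1 t ht
      refine ⟨(i, ⟨r, hr⟩), Subtype.ext ?_⟩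
      show tw r (rep i) = η
      have h3 := tw_mul (z := z) (S.stab_le_Nz (hR r hr)) (Cz_le_Nz z (S.cent_le hrt)) (rep i)
      rw [mul_inv_cancel_left, hti, tw_of_mem_Cz (S.cent_le hrt)] at h3
      exact h3.symm
  have hcardE : Nat.card E + 1 = Nat.card D := by
    rw [← L.card_bK, Nat.card_eq_fintype_card, Nat.card_eq_fintype_card, Fintype.card_subtype,
      Fintype.card_subtype,
      ← Finset.card_erase_add_one (Finset.mem_filter.2 ⟨Finset.mem_univ L.η₀, L.η₀_mem⟩)]
    congr 2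
    ext η
    simp [and_comm]
  have hcard : Fintype.card (Quotient s) *
      (Subgroup.centralizer (D : Set G)).relIndex (stab D f0) + 1 = Nat.card D := by
    rw [← hcardE, ← Nat.card_eq_of_bijective _ hbij, Nat.card_prod, Nat.card_eq_finsetCard, hRc,
      Nat.card_eq_fintype_card]
  obtain ⟨t, hB, ht⟩ := H19.AbelianFree.card_formula S.hM S.hB (fun a ha b hb => S.comm ha hb)
    S.hmax (fun g hg x hx hx1 h => S.free hg hx hx1 h)
  set e := (Subgroup.centralizer (D : Set G)).relIndex (stab D f0) with he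
  have he0 : 0 < e := Nat.pos_of_ne_zero Subgroup.FiniteIndex.index_ne_zero
  have htc : t = Fintype.card (Quotient s) :=
    Nat.eq_of_mul_eq_mul_right he0 (by omega)
  have hι : 1 ≤ Fintype.card (Quotient s) := by
    have h1 : 2 ≤ Nat.card D := by
      haveI : Nontrivial D := (Subgroup.nontrivial_iff_ne_bot D).2 S.bot_lt
      exact Finite.one_lt_card
    by_contra h
    rw [show Fintype.card (Quotient s) = 0 by omega] at hcard
    omega
  have hle := S.index_le_blockRank
  rw [← he] at hle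
  have hgram : ∀ i j, ∑ χ, L.n χ (rep i) * L.n χ (rep j) = (e : ℤ) + if i = j then 1 else 0 := by
    intro i j
    rw [L.gram hR hR1 hR2 i.out.2.1 j.out.2.1 i.out.2.2 j.out.2.2, hRc]
    congr 1
    by_cases hij : i = j
    · subst hij
      rw [if_pos rfl]
      obtain ⟨r, hr, hr1⟩ := hR1 1 (one_mem _)
      rw [mul_one] at hr1
      have hfix : tw r (rep i) = rep i := tw_of_mem_Cz (S.cent_le (inv_mem_iff.1 hr1)) _
      rw [Finset.card_eq_one.2 ⟨r, Finset.eq_singleton_iff_unique_mem.2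
        ⟨Finset.mem_filter.2 ⟨hr, hfix⟩, fun r' hr' =>
          hfree i r' (Finset.mem_filter.1 hr').1 r hr ((Finset.mem_filter.1 hr').2.trans hfix.symm)⟩⟩]
      rfl
    · rw [if_neg hij, Finset.card_eq_zero.2 (Finset.filter_eq_empty_iff.2
        fun r hr h => hij (rep_inj j i r (hR r hr) h).symm), Nat.cast_zero]
  have hout : ∀ χ ∉ B, ∀ i, L.n χ (rep i) = 0 := fun χ hχ i => L.n_eq_zero hχ i.out.2.1
  have hin : ∀ χ ∈ B, ∃ i, L.n χ (rep i) ≠ 0 := by
    intro χ hχ
    obtain ⟨η, h1, h2, h3⟩ := L.exists_n_ne_zero hχ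
    obtain ⟨i, t', ht', hi⟩ := rep_cover η h1 h2
    exact ⟨i, by rwa [← hi, L.n_tw χ ht'] at h3⟩
  obtain ⟨δ, Y, b, hδ, hY, hvb, hbY⟩ := exists_signs L (fun i χ => L.n χ (rep i)) e hgram
    (fun i => L.sum_n_mul_degree i.out.2.1) hin hout hι (by omega)
  have hnY : ∀ i, L.n (Y i) (rep i) = δ := fun i => by
    rw [hvb i (Y i), if_pos rfl, hbY, zero_add, mul_one]
  have hnY' : ∀ i j, i ≠ j → L.n (Y j) (rep i) = 0 := fun i j hij => by
    rw [hvb i (Y j), if_neg fun h => hij (hY h).symm, hbY, mul_zero, add_zero]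
  have hYB : ∀ i, Y i ∈ B := fun i => by
    by_contra h
    have := hout _ h i
    rw [hnY] at this
    omega
  set X : Finset (IrrCharacter G) :=
    Finset.univ.filter fun χ => χ ∈ B ∧ χ ∉ Finset.univ.image Y with hX
  have hvX : ∀ χ ∈ X, ∀ i, L.n χ (rep i) = b χ := fun χ hχ i => by
    rw [hvb i χ, if_neg fun h => (Finset.mem_filter.1 hχ).2.2
      (Finset.mem_image.2 ⟨i, Finset.mem_univ _, h.symm⟩), mul_zero, add_zero]
  have hb1 : ∀ χ ∈ X, (1 : ℤ) ≤ b χ * b χ := by
    intro χ hχ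
    obtain ⟨i, hi⟩ := hin χ (Finset.mem_filter.1 hχ).2.1
    rw [hvX χ hχ i] at hi
    rcases lt_or_gt_of_ne hi with h | h <;> nlinarith
  obtain ⟨i0⟩ : Nonempty (Quotient s) := Fintype.card_pos_iff.1 (by omega)
  have hsumX : ∑ χ ∈ X, b χ * b χ = (e : ℤ) := by
    have h := hgram i0 i0
    rw [if_pos rfl, ← Finset.sum_subset (Finset.subset_univ (insert (Y i0) X)) fun χ _ hχ => ?_,
      Finset.sum_insert fun hm => (Finset.mem_filter.1 hm).2.2
        (Finset.mem_image.2 ⟨i0, Finset.mem_univ _, rfl⟩), hnY,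
      Finset.sum_congr rfl fun χ hχ => by rw [hvX χ hχ i0]] at h
    · have : δ * δ = 1 := by rcases hδ with rfl | rfl <;> norm_num
      linarith
    · rw [Finset.mem_insert, not_or] at hχ
      by_cases hB' : χ ∈ B
      · have hy : χ ∈ Finset.univ.image Y := by_contra fun hy =>
          hχ.2 (Finset.mem_filter.2 ⟨Finset.mem_univ _, hB', hy⟩)
        obtain ⟨i, -, rfl⟩ := Finset.mem_image.1 hy
        rw [hnY' i0 i fun h => hχ.1 (congrArg Y h).symm, mul_zero]
      · rw [hout χ hB', mul_zero]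
  have hcardB : Nat.card B = X.card + Fintype.card (Quotient s) := by
    rw [Nat.card_eq_fintype_card, Fintype.card_subtype, ← Finset.card_univ,
      ← Finset.card_image_of_injective _ hY, ← Finset.card_union_of_disjoint
        (Finset.disjoint_left.2 fun χ hχ => (Finset.mem_filter.1 hχ).2.2)]
    congr 1
    ext χ
    simp only [hX, Finset.mem_union, Finset.mem_filter, Finset.mem_univ, true_and,
      Finset.mem_image]
    refine ⟨fun h => ?_, ?_⟩
    · by_cases hy : ∃ i, Y i = χ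
      · exact Or.inr hy
      · exact Or.inl ⟨h, hy⟩
    · rintro (⟨h, -⟩ | ⟨i, rfl⟩)
      · exact h
      · exact hYB i
  have hXe : (X.card : ℤ) ≤ e := by
    rw [← hsumX]
    refine le_trans ?_ (Finset.sum_le_sum hb1)
    rw [Finset.sum_const, nsmul_eq_mul, mul_one]
  have hXeq : X.card = e := by omega
  have hb : ∀ χ ∈ X, b χ = 1 ∨ b χ = -1 := by
    intro χ hχ
    have heq := (Finset.sum_eq_sum_iff_of_le hb1).1 (by
      rw [hsumX, Finset.sum_const, nsmul_eq_mul, mul_one, hXeq])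
    exact mul_self_eq_one_iff.1 (heq χ hχ).symm
  refine ⟨Quotient s, inferInstance, ⟨⟨rep, fun i => i.out.2.1, fun i => i.out.2.2, rep_cover,
    rep_inj, δ, Y, X, b, hδ, hY, fun i h => (Finset.mem_filter.1 h).2.2
      (Finset.mem_image.2 ⟨i, Finset.mem_univ _, rfl⟩), fun χ => ?_, hb, hvX, hnY, hnY',
    fun χ hχ η hη => L.n_eq_zero hχ hη, hXeq, by rw [Nat.card_eq_fintype_card]; exact hcard,
    by rw [Nat.card_eq_fintype_card (α := Quotient s), ← htc]; exact hB, ?_⟩⟩⟩
  · refine ⟨fun h => ?_, ?_⟩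
    · by_cases hy : χ ∈ Finset.univ.image Y
      · obtain ⟨i, -, hi⟩ := Finset.mem_image.1 hy
        exact Or.inr ⟨i, hi⟩
      · exact Or.inl (Finset.mem_filter.2 ⟨Finset.mem_univ _, h, hy⟩)
    · rintro (h | ⟨i, rfl⟩)
      · exact (Finset.mem_filter.1 h).2.1
      · exact hYB i
  · show blockRank p B = e
    omega

end Loc

end H23.Cyc
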