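import Cfsg.Agent.H23.StarPart
import Cfsg.Agent.H22.Contrib

/-!
# Idempotents, pairs and traces inside a subgroup

The inclusion `k[K] → k[G]` for a subgroup `K` transports blocks of centralizers, truncations and
inclusions of pairs; traces are linear in the restriction.
-/

set_option autoImplicit false
set_option linter.style.haveILetI false
set_option linter.unusedSectionVars false
set_option maxHeartbeats 400000

open Cfsg
open scoped MonoidAlgebra ComplexConjugate

namespace H23.Cyc

universe u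

variable {G : Type u} [Group G] {k : Type*} [CommRing k] {K : Subgroup G}

/-- A subgroup of `K` inside `G`. -/
abbrev up (K : Subgroup G) (Q : Subgroup K) : Subgroup G := Q.map K.subtype

theorem up_le (Q : Subgroup K) : up K Q ≤ K := by
  rintro _ ⟨x, -, rfl⟩
  exact x.2

theorem mem_up {Q : Subgroup K} {x : K} : (x : G) ∈ up K Q ↔ x ∈ Q := by
  simp [up, Subgroup.mem_map]

theorem up_subgroupOf {Q : Subgroup G} (h : Q ≤ K) : up K (Q.subgroupOf K) = Q := by
  rw [up, Subgroup.subgroupOf_map_subtype, inf_eq_left.2 h]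

theorem up_zpowers (u : K) : up K (Subgroup.zpowers u) = Subgroup.zpowers (u : G) := by
  rw [up, MonoidHom.map_zpowers]; rfl

theorem coe_mem_centralizer {Q : Subgroup K} {g : K} :
    (g : G) ∈ Subgroup.centralizer (up K Q : Set G) ↔
      g ∈ Subgroup.centralizer (Q : Set K) := by
  simp only [Subgroup.mem_centralizer_iff, SetLike.mem_coe]
  constructor
  · exact fun h x hx => Subtype.ext (h x (mem_up.2 hx))
  · rintro h _ ⟨x, hx, rfl⟩
    exact congrArg Subtype.val (h x hx)

theorem up_centralizer (Q : Subgroup K) :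
    up K (Subgroup.centralizer (Q : Set K)) = Subgroup.centralizer (up K Q : Set G) ⊓ K := by
  ext x
  constructor
  · rintro ⟨g, hg, rfl⟩
    exact ⟨coe_mem_centralizer.2 hg, g.2⟩
  · rintro ⟨h1, h2⟩
    exact ⟨⟨x, h2⟩, coe_mem_centralizer.1 h1, rfl⟩

theorem up_cjS (x : K) (Q : Subgroup K) : up K (cjS x Q) = cjS (x : G) (up K Q) := by
  rw [up, cjS, cjS, Subgroup.map_map, Subgroup.map_map]
  congr 1

theorem isPGroup_up {p : ℕ} {Q : Subgroup K} (h : IsPGroup p Q) : IsPGroup p (up K Q) :=
  h.map _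

theorem isPGroup_of_up {p : ℕ} {Q : Subgroup K} (h : IsPGroup p (up K Q)) : IsPGroup p Q :=
  h.of_equiv (Q.equivMapOfInjective K.subtype K.subtype_injective).symm

theorem cj_emb (x : K) (a : k[K]) : cj (x : G) (emb K a) = emb K (cj x a) := by
  ext g
  by_cases hg : g ∈ K
  · lift g to K using hg
    rw [coeff_emb_coe, coeff_cj, coeff_cj, ← coeff_emb_coe]
    rfl
  · rw [coeff_emb_of_notMem _ _ hg, coeff_cj, coeff_emb_of_notMem]
    intro h
    apply hg
    have := mul_mem (mul_mem x.2 h) (inv_mem x.2)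
    simpa [mul_assoc] using this

theorem Br_emb (Q : Subgroup K) (a : k[K]) :
    Br (up K Q) (emb K a) = emb K (Br Q a) := by
  ext g
  by_cases hg : g ∈ K
  · lift g to K using hg
    by_cases hc : g ∈ Subgroup.centralizer (Q : Set K)
    · rw [coeff_Br_of_mem _ (coe_mem_centralizer.2 hc), coeff_emb_coe, coeff_emb_coe,
        coeff_Br_of_mem _ hc]
    · rw [coeff_Br_of_notMem _ (fun h => hc (coe_mem_centralizer.1 h)), coeff_emb_coe,
        coeff_Br_of_notMem _ hc]
  · rw [coeff_emb_of_notMem K (Br Q a) hg]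
    by_cases hc : g ∈ Subgroup.centralizer (up K Q : Set G)
    · rw [coeff_Br_of_mem _ hc, coeff_emb_of_notMem _ _ hg]
    · rw [coeff_Br_of_notMem _ hc]

theorem emb_res_of_supp {H : Subgroup G} (hH : H ≤ K) {w : k[G]} (hw : Supp H w) :
    emb K (res K w) = w := emb_res (hw.mono hH)

variable [Fintype G] [Fintype K]

theorem supp_emb_iff {H : Subgroup K} {a : k[K]} : Supp (up K H) (emb K a) ↔ Supp H a := by
  constructor
  · intro h x hx
    rw [← coeff_emb_coe K a x]
    exact h _ fun hm => hx (mem_up.1 hm)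
  · intro h g hg
    by_cases hgK : g ∈ K
    · lift g to K using hgK
      rw [coeff_emb_coe]
      exact h _ fun hm => hg (mem_up.2 hm)
    · exact coeff_emb_of_notMem _ _ hgK

theorem isFix_emb_iff {H : Subgroup K} {a : k[K]} : IsFix (up K H) (emb K a) ↔ IsFix H a := by
  rw [isFix_iff_cj, isFix_iff_cj]
  constructor
  · intro h x hx
    refine emb_injective K ?_
    rw [← cj_emb]
    exact h _ (mem_up.2 hx)
  · rintro h _ ⟨x, hx, rfl⟩
    rw [Subgroup.coe_subtype, cj_emb, h x hx]

theorem cidem_emb_iff {H : Subgroup K} {a : k[K]} : CIdem (up K H) (emb K a) ↔ CIdem H a :=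
  ⟨fun h => ⟨supp_emb_iff.1 h.supp, isFix_emb_iff.1 h.fix,
    emb_injective K (by rw [map_mul]; exact h.idem)⟩,
  fun h => ⟨supp_emb_iff.2 h.supp, isFix_emb_iff.2 h.fix, by rw [← map_mul, h.idem]⟩⟩

theorem isBlk_emb_iff {H : Subgroup K} {a : k[K]} : IsBlk (up K H) (emb K a) ↔ IsBlk H a := by
  constructor
  · refine fun h => ⟨cidem_emb_iff.1 h.cidem, fun h0 => h.ne_zero (by rw [h0, map_zero]),
      fun w hw => ?_⟩
    rcases h.prim _ (cidem_emb_iff.2 hw) with h1 | h1 <;> rw [← map_mul] at h1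
    · exact Or.inl (emb_injective K (by rw [h1, map_zero]))
    · exact Or.inr (emb_injective K h1)
  · refine fun h => ⟨cidem_emb_iff.2 h.cidem, fun h0 => h.ne_zero
      (emb_injective K (by rw [h0, map_zero])), fun w hw => ?_⟩
    obtain ⟨v, rfl⟩ : ∃ v, emb K v = w := ⟨_, emb_res_of_supp (up_le H) hw.supp⟩
    rcases h.prim _ (cidem_emb_iff.1 hw) with h1 | h1
    · exact Or.inl (by rw [← map_mul, h1, map_zero])
    · exact Or.inr (by rw [← map_mul, h1])

theorem exists_of_cidem {H : Subgroup K} {w : k[G]} (hw : CIdem (up K H) w) :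
    ∃ a : k[K], emb K a = w ∧ CIdem H a := by
  refine ⟨res K w, emb_res_of_supp (up_le H) hw.supp, ?_⟩
  rwa [← cidem_emb_iff, emb_res_of_supp (up_le H) hw.supp]

section Pairs

variable {F : Type*} [Field F] {p : ℕ} [Fact p.Prime] [CharP F p] [IsAlgClosed F]

theorem inBlk_emb_iff {E : F[K]} {Q : Subgroup K} {f : F[K]} :
    InBlk (emb K E) (up K Q) (emb K f) ↔ InBlk E Q f := by
  rw [InBlk, InBlk, Br_emb, ← map_mul]
  exact ⟨fun h => emb_injective K h, fun h => by rw [h]⟩

theorem isPair_emb_iff {Q : Subgroup K} {f : F[K]}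
    (hQ : Subgroup.centralizer (up K Q : Set G) ≤ K) :
    IsPair p (up K Q) (emb K f) ↔ IsPair p Q f := by
  have h : up K (Subgroup.centralizer (Q : Set K)) = Subgroup.centralizer (up K Q : Set G) := by
    rw [up_centralizer, inf_eq_left.2 hQ]
  rw [IsPair, IsPair, ← h, isBlk_emb_iff]
  exact ⟨fun h => ⟨isPGroup_of_up h.1, h.2⟩, fun h => ⟨isPGroup_up h.1, h.2⟩⟩

/-- Inclusions in `K` give inclusions in `G` as long as the centralizers lie in `K`. -/
theorem le_emb {Q P : Subgroup K} {f e : F[K]} (h : Le p (Q, f) (P, e))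
    (hQ : Subgroup.centralizer (up K Q : Set G) ≤ K) :
    Le p (up K Q, emb K f) (up K P, emb K e) := by
  suffices hh : ∀ a b : Subgroup K × F[K], Le p a b →
      Subgroup.centralizer (up K a.1 : Set G) ≤ K →
      Le p (up K a.1, emb K a.2) (up K b.1, emb K b.2) from hh (Q, f) (P, e) h hQ
  intro a b hab ha
  induction hab with
  | refl => exact Relation.ReflTransGen.refl
  | @tail b c hb hbc ih =>
    have hle : Le p a b := hb
    have hB : Subgroup.centralizer (up K b.1 : Set G) ≤ K :=
      (centralizer_anti (Subgroup.map_mono hle.le)).trans ha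
    have hC : Subgroup.centralizer (up K c.1 : Set G) ≤ K :=
      (centralizer_anti (Subgroup.map_mono hbc.le)).trans hB
    refine ih.tail ⟨(isPair_emb_iff hB).2 hbc.fst, (isPair_emb_iff hC).2 hbc.snd,
      Subgroup.map_mono hbc.le, ?_, isFix_emb_iff.2 hbc.fix, ?_⟩
    · exact (Subgroup.map_mono hbc.norm).trans (Subgroup.le_normalizer_map K.subtype)
    · show emb K c.2 * Br (up K c.1) (emb K b.2) = emb K c.2
      rw [Br_emb, ← map_mul, hbc.mul]

end Pairs

/-! ### Traces -/

section Trace

variable {p : ℕ} [Fact p.Prime] {M : Ideal AlgInt} [hMp : M.IsPrime]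

theorem chiLin_ext (χ : IrrCharacter G) (a : MonoidAlgebra (H20.O M) K) :
    chiLin χ (MonoidAlgebra.mapDomainAlgHom (H20.O M) (H20.O M) K.subtype a) =
      ∑ η : IrrCharacter K, (H22.Contrib.nres K χ η : ℂ) * chiLin η a := by
  classical
  have hcl : IsClassFunction K (fun c : K => (χ : G → ℂ) c) := fun a b =>
    H12.irr_isClassFunction χ (a : G) (b : G)
  set L := MonoidAlgebra.mapDomainAlgHom (H20.O M) (H20.O M) K.subtype a with hL
  have hcoe : ∀ c : K, L.coeff (c : G) = a.coeff c := fun c =>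
    Finsupp.mapDomain_apply Subtype.val_injective a.coeff c
  have hnot : ∀ g, g ∉ K → L.coeff g = 0 := fun g hg =>
    Finsupp.mapDomain_of_notMem_range a.coeff g fun ⟨c, hc⟩ => hg (hc ▸ c.2)
  rw [chiLin, ← Finset.sum_subset (Finset.subset_univ (Finset.univ.filter (· ∈ K)))
    (fun g _ hg => by
      rw [hnot g fun h => hg (Finset.mem_filter.2 ⟨Finset.mem_univ _, h⟩)]; simp),
    Finset.sum_subtype (p := (· ∈ K)) _ (by simp)]
  simp only [hcoe]
  rw [Finset.sum_congr rfl fun c _ => by rw [H12.classFunction_apply_eq_sum hcl c, Finset.mul_sum],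
    Finset.sum_comm]
  refine Finset.sum_congr rfl fun η _ => ?_
  rw [chiLin, Finset.mul_sum]
  refine Finset.sum_congr rfl fun c _ => ?_
  rw [H22.Contrib.classInner_res]
  ring

/-- Traces are linear in the restriction. -/
theorem T_emb (χ : IrrCharacter G) {g : K} {a : MonoidAlgebra (H20.k M) K} (ha : IsId g a) :
    T χ (g : G) (emb K a) =
      ∑ η : IrrCharacter K, (H22.Contrib.nres K χ η : ℂ) * T η g a := by
  classical
  obtain ⟨e, he, her, hec⟩ := ha.lift
  set ι : MonoidAlgebra (H20.O M) K →ₐ[H20.O M] MonoidAlgebra (H20.O M) G :=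
    MonoidAlgebra.mapDomainAlgHom (H20.O M) (H20.O M) K.subtype with hι
  have hsingle : ι (gO M g) = gO M (g : G) := by
    rw [hι, MonoidAlgebra.mapDomainAlgHom_apply]
    exact MonoidAlgebra.mapDomain_single
  have hr : H20.rd (ι e) = emb K a := by
    ext x
    rw [H20.coeff_rd]
    by_cases hx : x ∈ K
    · lift x to K using hx
      rw [coeff_emb_coe, ← her, H20.coeff_rd]
      exact congrArg _ (Finsupp.mapDomain_apply Subtype.val_injective e.coeff x)
    · rw [coeff_emb_of_notMem _ _ hx]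
      have h0 : (ι e).coeff x = 0 :=
        Finsupp.mapDomain_of_notMem_range e.coeff x fun ⟨c, hc⟩ => hx (hc ▸ c.2)
      rw [h0, map_zero]
  rw [T_eq χ (show ι e * ι e = ι e by rw [← map_mul, he]) hr (hsingle ▸ hec.map ι), ← hsingle,
    ← map_mul, hι, chiLin_ext]
  exact Finset.sum_congr rfl fun η _ => by rw [T_eq η he her hec]

theorem isId_emb {g : K} {a : MonoidAlgebra (H20.k M) K} (ha : IsId g a) :
    IsId (g : G) (emb K a) :=
  ⟨by rw [← map_mul, ha.idem], by rw [cj_emb, ha.fix]⟩

end Trace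

end H23.Cyc
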